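/-
The Lie algebra of an affine group (epsilon-derivations inside the convolution algebra) acting on comodules.
-/
import Groth.Agent.ComodLib.LieKill
import Groth.Agent.ComodLib.CartierChar0
import Groth.Agent.ComodLib.Coalg
import Mathlib.Algebra.Lie.OfAssociative
import Mathlib.Algebra.Lie.Subalgebra
import Mathlib.RingTheory.Filtration

universe u v w

open TensorProduct WithConv

namespace Groth.Agent.RedLR

open ComodLib

attribute [local instance 100] LieRing.ofAssociativeRing LieAlgebra.ofAssociativeAlgebra
attribute [local instance] RingHom.ker_isPrime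

variable {k : Type u} [Field k] {A : Type u} [CommRing A] [HopfAlgebra k A]

local notation "ε" => Bialgebra.counitAlgHom k A

theorem counit_actF (χ : A →ₗ[k] k) (a : A) : ε (actF χ a) = χ a := by
  have key : ∀ y : A ⊗[k] A,
      ε (slice χ y) = χ (TensorProduct.lid k A ((Coalgebra.counit (R := k)).rTensor A y)) := fun y => by
    induction y using TensorProduct.induction_on with
    | zero => simp
    | tmul p q => simp [mul_comm]
    | add p q hp hq => simp only [map_add, hp, hq]
  refine (key _).trans ?_
  rw [show HopfRep.Comod.coact (k := k) (A := A) a = Coalgebra.comul (R := k) a from rfl,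
    Coalgebra.rTensor_counit_comul]
  simp

theorem conv_apply (φ ψ : WithConv (A →ₗ[k] k)) (a : A) :
    (φ * ψ).ofConv a = φ.ofConv (actF ψ.ofConv a) := by
  rw [← counit_actF (φ * ψ).ofConv a, actF_convMul, counit_actF]

theorem actF_mul_of_der {φ : A →ₗ[k] k} (hφ : ∀ a b, φ (a * b) = ε a * φ b + ε b * φ a) (a b : A) :
    actF φ (a * b) = a * actF φ b + b * actF φ a :=
  Cartier0.lieOp_mul ⟨φ, hφ⟩ a b

variable (k A) in
/-- The Lie algebra of the group: epsilon-derivations inside the convolution algebra. -/
noncomputable def Tang : LieSubalgebra k (WithConv (A →ₗ[k] k)) where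
  carrier := {φ | ∀ a b, φ.ofConv (a * b) = ε a * φ.ofConv b + ε b * φ.ofConv a}
  add_mem' {φ ψ} hφ hψ a b := by
    simp only [WithConv.ofConv_add, LinearMap.add_apply, hφ a b, hψ a b]
    ring
  zero_mem' a b := by simp
  smul_mem' c φ hφ a b := by
    simp only [WithConv.ofConv_smul, LinearMap.smul_apply, hφ a b, smul_eq_mul]
    ring
  lie_mem' {φ ψ} hφ hψ a b := by
    have hc : ∀ (φ ψ : WithConv (A →ₗ[k] k)),
        (∀ a b, φ.ofConv (a * b) = ε a * φ.ofConv b + ε b * φ.ofConv a) →
        (∀ a b, ψ.ofConv (a * b) = ε a * ψ.ofConv b + ε b * ψ.ofConv a) →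
        (φ * ψ).ofConv (a * b) = ε a * (φ * ψ).ofConv b + ε b * (φ * ψ).ofConv a +
          (ψ.ofConv b * φ.ofConv a + ψ.ofConv a * φ.ofConv b) := fun φ ψ hφ hψ => by
      simp only [conv_apply, actF_mul_of_der hψ, map_add, hφ, counit_actF]
      ring
    simp only [Ring.lie_def, WithConv.ofConv_sub, LinearMap.sub_apply]
    rw [hc φ ψ hφ hψ, hc ψ φ hψ hφ]
    ring

theorem mem_tang {φ : WithConv (A →ₗ[k] k)} :
    φ ∈ Tang k A ↔ ∀ a b, φ.ofConv (a * b) = ε a * φ.ofConv b + ε b * φ.ofConv a := Iff.rfl

/-- The underlying linear form. -/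
abbrev form (D : Tang k A) : A →ₗ[k] k := (D : WithConv (A →ₗ[k] k)).ofConv

theorem form_mul (D : Tang k A) (a b : A) : form D (a * b) = ε a * form D b + ε b * form D a := D.2 a b

/-- As an element of the tangent space. -/
def toTan (D : Tang k A) : Cartier0.Tan k A := ⟨form D, D.2⟩

/-- A tangent vector as an element of the Lie algebra. -/
def ofTan (L : Cartier0.Tan k A) : Tang k A := ⟨toConv L.1, L.2⟩

theorem form_one (D : Tang k A) : form D 1 = 0 := Cartier0.Tan.one (toTan D)

theorem actF_form_one (D : Tang k A) : actF (form D) (1 : A) = 0 := Cartier0.lieOp_one (toTan D)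

variable (k A) in
/-- The action of the Lie algebra on a comodule. -/
noncomputable def actHom (V : Type w) [AddCommGroup V] [Module k V] [HopfRep.Comod k A V] :
    Tang k A →ₗ⁅k⁆ Module.End k V where
  toFun D := actF (form D)
  map_add' D E := actF_add _ _
  map_smul' c D := actF_smul _ _
  map_lie' {D E} := by
    refine LinearMap.ext fun v => ?_
    change convAction k A V ((D : WithConv (A →ₗ[k] k)) * E - (E : WithConv (A →ₗ[k] k)) * D) v =
      (convAction k A V (D : WithConv (A →ₗ[k] k)) * convAction k A V (E : WithConv (A →ₗ[k] k)) -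
        convAction k A V (E : WithConv (A →ₗ[k] k)) * convAction k A V (D : WithConv (A →ₗ[k] k))) v
    rw [map_sub, map_mul, map_mul]

variable {V : Type w} [AddCommGroup V] [Module k V] [HopfRep.Comod k A V]

noncomputable scoped instance tangRingModule : LieRingModule (Tang k A) V :=
  LieRingModule.compLieHom V (actHom k A V)

scoped instance tangModule : LieModule k (Tang k A) V :=
  LieModule.compLieHom V (actHom k A V)

theorem tang_lie_def (D : Tang k A) (v : V) : ⁅D, v⁆ = actF (form D) v := rfl

theorem toEnd_tang (D : Tang k A) :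
    LieModule.toEnd k (Tang k A) V D = actF (form D) := rfl

theorem comodHom_tang_lie {W : Type w} [AddCommGroup W] [Module k W] [HopfRep.Comod k A W]
    {f : V →ₗ[k] W} (hf : Hoch.IsComodHom A f) (D : Tang k A) (v : V) : f ⁅D, v⁆ = ⁅D, f v⁆ :=
  comodHom_actF hf _ v

/-- A fixed vector is killed by the Lie algebra. -/
theorem tang_lie_eq_zero_of_fixed {v : V} (hv : v ∈ HopfRep.fixedPts k A V) (D : Tang k A) : ⁅D, v⁆ = 0 := by
  have hv' : HopfRep.Comod.coact (k := k) (A := A) v = v ⊗ₜ[k] (1 : A) := hv
  rw [tang_lie_def, actF_apply, hv', slice_tmul, form_one, zero_smul]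

section CharZero

variable [Algebra.FiniteType k A]

instance : Module.Finite k (Tang k A) := by
  obtain ⟨n, x, L, hx, hy⟩ := Cartier0.exists_dual_system (k := k) (A := A)
  let T : Tang k A →ₗ[k] (Fin n → k) :=
    { toFun := fun D i => form D (x i)
      map_add' := fun D E => rfl
      map_smul' := fun c D => rfl }
  refine Module.Finite.of_injective T ((injective_iff_map_eq_zero T).mpr fun D hD => ?_)
  have hx0 : ∀ i, form D (x i) = 0 := fun i => congrFun hD i
  have h2 : ∀ z ∈ Cartier0.aug k A ^ 2, form D z = 0 := fun z hz => by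
    rw [pow_two] at hz
    induction hz using Submodule.mul_induction_on' with
    | mem_mul_mem p hp q hq =>
      rw [form_mul, show ε p = 0 from hp, show ε q = 0 from hq]
      ring
    | add p _ q _ hp hq => rw [map_add, hp, hq, add_zero]
  refine Subtype.ext (WithConv.ofConv_injective (LinearMap.ext fun a => ?_))
  show form D a = 0
  have h3 := h2 _ (hy _ (Cartier0.sub_counit_mem a))
  rw [map_sub, map_sum, map_sub, Algebra.algebraMap_eq_smul_one, map_smul, form_one] at h3
  simpa [hx0] using h3

variable [CharZero k] [IsDomain A]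

/-- Functions vanishing at the identity and stable under the Lie algebra vanish. -/
theorem eq_zero_of_stable (S : Set A) (hS : ∀ a ∈ S, ε a = 0)
    (hst : ∀ (D : Tang k A), ∀ a ∈ S, actF (form D) a ∈ S) {a : A} (ha : a ∈ S) : a = 0 := by
  haveI : IsNoetherianRing A := Algebra.FiniteType.isNoetherianRing k A
  have hne : Cartier0.aug k A ≠ ⊤ := RingHom.ker_ne_top _
  rw [← Ideal.mem_bot, ← Ideal.iInf_pow_eq_bot_of_isDomain _ hne, Submodule.mem_iInf]
  exact fun n => Cartier0.mem_iInf_pow_of_stable S hS (fun L b hb => hst (ofTan L) b hb) n ha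

/-- A submodule stable under the Lie algebra of a connected group is a subcomodule. -/
theorem isSubcomod_of_stable (U : Submodule k V) (h : ∀ (D : Tang k A), ∀ u ∈ U, ⁅D, u⁆ ∈ U) :
    HopfRep.IsSubcomod (k := k) (A := A) U := by
  rw [isSubcomod_iff_actF]
  intro φ u hu
  rw [← Submodule.Quotient.mk_eq_zero]
  by_contra hne
  obtain ⟨f, hf⟩ := Module.Projective.exists_dual_ne_zero k hne
  let π : V →ₗ[k] k := f ∘ₗ U.mkQ
  have hπ : ∀ w ∈ U, π w = 0 := fun w hw => by simp [π, (Submodule.Quotient.mk_eq_zero U).mpr hw]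
  have h0 : coefFun (C := A) π u = 0 := by
    refine eq_zero_of_stable (k := k) {a | ∃ v ∈ U, a = coefFun (C := A) π v} ?_ ?_ ⟨u, hu, rfl⟩
    · rintro _ ⟨v, hv, rfl⟩
      exact (counit_coefFun π v).trans (hπ v hv)
    · rintro D _ ⟨v, hv, rfl⟩
      exact ⟨⁅D, v⁆, h D v hv, (comodHom_actF (isComodHom_coefFun π) _ v).symm⟩
  apply hf
  have h1 : φ (coefFun (C := A) π u) = π (actF φ u) := by
    rw [coefFun_apply, actF_apply]
    induction HopfRep.Comod.coact (k := k) (A := A) u using TensorProduct.induction_on with
    | zero => simp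
    | tmul p q => simp [mul_comm]
    | add p q hp hq => simp only [map_add, hp, hq]
  rw [h0, map_zero] at h1
  exact h1.symm

/-- A vector killed by the Lie algebra of a connected group is fixed. -/
theorem mem_fixedPts_of_killed {v : V} (h : ∀ D : Tang k A, ⁅D, v⁆ = 0) :
    v ∈ HopfRep.fixedPts k A V := by
  show HopfRep.Comod.coact (k := k) (A := A) v = v ⊗ₜ[k] (1 : A)
  refine ext_of_forall_slice_eq fun φ => ?_
  rw [slice_tmul, ← actF_apply]
  refine (Module.forall_dual_apply_eq_zero_iff k (_ - _)).mp (fun π => ?_) |> sub_eq_zero.mp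
  have h0 : coefFun (C := A) π v - π v • (1 : A) = 0 := by
    refine eq_zero_of_stable (k := k) ({coefFun (C := A) π v - π v • (1 : A), 0} : Set A) ?_ ?_ (Set.mem_insert _ _)
    · rintro _ (rfl | rfl)
      · have := counit_coefFun (C := A) π v
        simp only [Bialgebra.counitAlgHom_apply, map_sub, map_smul, Bialgebra.counit_one, smul_eq_mul, mul_one,
          this, sub_self]
      · simp
    · rintro D _ (rfl | rfl)
      · refine Or.inr ?_
        show actF (form D) _ = 0
        rw [map_sub, map_smul, actF_form_one, smul_zero, sub_zero,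
          ← comodHom_actF (isComodHom_coefFun π) _ v, ← tang_lie_def, h D, map_zero]
      · exact Or.inr (map_zero _)
  have h1 : φ (coefFun (C := A) π v) = π (actF φ v) := by
    rw [coefFun_apply, actF_apply]
    induction HopfRep.Comod.coact (k := k) (A := A) v using TensorProduct.induction_on with
    | zero => simp
    | tmul p q => simp [mul_comm]
    | add p q hp hq => simp only [map_add, hp, hq]
  rw [sub_eq_zero.mp h0, map_smul, smul_eq_mul] at h1
  rw [map_sub, ← h1, map_smul, smul_eq_mul, mul_comm, sub_self]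

end CharZero

end Groth.Agent.RedLR
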