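/-
The common kernel of the simple representations: unipotence, and its infinitesimal triviality.
-/
import Groth.Agent.RedLR.LieComod
import Groth.Agent.ComodLib.Orbits
import Groth.Agent.ComodLib.Simple
import Groth.Prelude.Def_ComodSub

universe u

open TensorProduct WithConv

namespace Groth.Agent.RedLR

open ComodLib

attribute [local instance] RingHom.ker_isPrime

/-- An element of finite invertible order with nilpotent difference from one is one. -/
theorem eq_one_of_isNilpotent_sub_one {R : Type*} [Ring R] {f : R} {N : ℕ} (hN : IsUnit (N : R))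
    (h : IsNilpotent (f - 1)) (hf : f ^ N = 1) : f = 1 := by
  have hcm : Commute (f - 1) f := (Commute.refl f).sub_left (Commute.one_left f)
  let T := ∑ i ∈ Finset.range N, ∑ j ∈ Finset.range i, f ^ j
  have hT : Commute (f - 1) T := Commute.sum_right _ _ _ fun i _ => Commute.sum_right _ _ _ fun j _ => hcm.pow_right j
  have e : ∑ i ∈ Finset.range N, f ^ i = (N : R) + (f - 1) * T := by
    simp only [T, Finset.mul_sum]
    simp only [← Finset.mul_sum, mul_geom_sum, Finset.sum_sub_distrib, Finset.sum_const, Finset.card_range,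
      nsmul_eq_mul, mul_one, add_sub_cancel]
  have hu : IsUnit (∑ i ∈ Finset.range N, f ^ i) := by
    rw [e, add_comm]
    exact (hT.isNilpotent_mul_right h).isUnit_add_right_of_commute hN (Nat.commute_cast _ _)
  exact sub_eq_zero.mp (hu.mul_left_eq_zero.mp (by rw [mul_geom_sum, hf, sub_self]))

variable {k : Type u} [Field k] {A : Type u} [CommRing A] [HopfAlgebra k A]

local notation "ε" => Bialgebra.counitAlgHom k A

variable (k A) in
/-- Matrix coefficient functions of simple comodules, minus their values at the identity. -/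
def gens : Set A :=
  {a | ∃ (V : Type u) (_ : AddCommGroup V) (_ : Module k V) (_ : HopfRep.Comod k A V),
    HopfRep.IsSimpleComod k A V ∧ ∃ (f : V →ₗ[k] k) (v : V), a = coefFun (C := A) f v - f v • (1 : A)}

/-- A point acting trivially on every simple comodule. -/
def KillsPt (χ : A →ₐ[k] k) : Prop :=
  ∀ (V : Type u) [AddCommGroup V] [Module k V] [HopfRep.Comod k A V],
    HopfRep.IsSimpleComod k A V → ∀ v : V, actF χ.toLinearMap v = v

theorem apply_coefFun {V : Type u} [AddCommGroup V] [Module k V] [HopfRep.Comod k A V]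
    (φ : A →ₗ[k] k) (f : V →ₗ[k] k) (v : V) : φ (coefFun (C := A) f v) = f (actF φ v) := by
  rw [coefFun_apply, actF_apply]
  induction HopfRep.Comod.coact (k := k) (A := A) v using TensorProduct.induction_on with
  | zero => simp
  | tmul p q => simp [mul_comm]
  | add p q hp hq => simp only [map_add, hp, hq]

theorem killsPt_iff (χ : A →ₐ[k] k) : KillsPt χ ↔ ∀ a ∈ gens k A, χ a = 0 := by
  constructor
  · rintro h _ ⟨V, _, _, _, hV, f, v, rfl⟩
    rw [map_sub, map_smul, map_one, ← AlgHom.toLinearMap_apply, apply_coefFun, h V hV v, smul_eq_mul, mul_one,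
      sub_self]
  · intro h V _ _ _ hV v
    rw [← sub_eq_zero]
    refine (Module.forall_dual_apply_eq_zero_iff k _).mp fun f => ?_
    have := h _ ⟨V, inferInstance, inferInstance, inferInstance, hV, f, v, rfl⟩
    rw [map_sub, map_smul, map_one, ← AlgHom.toLinearMap_apply, apply_coefFun, smul_eq_mul, mul_one] at this
    rwa [map_sub]

theorem actF_counit_alg {V : Type u} [AddCommGroup V] [Module k V] [HopfRep.Comod k A V] (v : V) :
    actF (ε).toLinearMap v = v := actF_counit (k := k) (C := A) v

theorem actF_conv_alg {V : Type u} [AddCommGroup V] [Module k V] [HopfRep.Comod k A V]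
    (χ ψ : WithConv (A →ₐ[k] k)) (v : V) :
    actF (χ * ψ).ofConv.toLinearMap v = actF χ.ofConv.toLinearMap (actF ψ.ofConv.toLinearMap v) := by
  rw [show (χ * ψ).ofConv.toLinearMap =
    (toConv χ.ofConv.toLinearMap * toConv ψ.ofConv.toLinearMap).ofConv from
      congrArg WithConv.ofConv (AlgHom.toLinearMap_convMul χ ψ)]
  exact actF_convMul _ _ v

theorem actF_one_alg {V : Type u} [AddCommGroup V] [Module k V] [HopfRep.Comod k A V] (v : V) :
    actF (1 : WithConv (A →ₐ[k] k)).ofConv.toLinearMap v = v := by
  have h : (1 : WithConv (A →ₐ[k] k)).ofConv.toLinearMap = (ε).toLinearMap :=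
    LinearMap.ext fun a => by simp
  rw [h, actF_counit_alg]

variable (k A) in
/-- The group of points acting trivially on every simple comodule. -/
def killSubgroup : Subgroup (WithConv (A →ₐ[k] k)) where
  carrier := {χ | KillsPt χ.ofConv}
  one_mem' V _ _ _ _ v := actF_one_alg v
  mul_mem' {χ ψ} hχ hψ V _ _ _ hV v := by rw [actF_conv_alg, hψ V hV, hχ V hV]
  inv_mem' {χ} hχ V _ _ _ hV v := by
    conv_lhs => rw [← hχ V hV v, ← actF_conv_alg, inv_mul_cancel, actF_one_alg]

theorem mem_killSubgroup {χ : WithConv (A →ₐ[k] k)} : χ ∈ killSubgroup k A ↔ KillsPt χ.ofConv := Iff.rfl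

instance : (killSubgroup k A).Normal where
  conj_mem χ hχ ψ V _ _ _ hV v := by
    rw [actF_conv_alg, actF_conv_alg, hχ V hV, ← actF_conv_alg, mul_inv_cancel, actF_one_alg]

/-- An operator that is trivial on every simple comodule is unipotent on finite comodules. -/
theorem isNilpotent_sub_one {χ : A →ₐ[k] k} (h : KillsPt χ) {V : Type u} [AddCommGroup V] [Module k V]
    [Module.Finite k V] [HopfRep.Comod k A V] :
    IsNilpotent ((actF χ.toLinearMap : Module.End k V) - 1) := by
  induction hn : Module.finrank k V using Nat.strong_induction_on generalizing V with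
  | _ n ih =>
  by_cases hV : (⊤ : Submodule k V) = ⊥
  · refine ⟨1, LinearMap.ext fun v => ?_⟩
    have hv : v ∈ (⊥ : Submodule k V) := hV ▸ Submodule.mem_top
    rw [(Submodule.mem_bot k).mp hv]
    simp
  obtain ⟨S, -, hSf, hS, hS0, hSmin⟩ := exists_simple_le (C := A) (k := k)
    (U := (⊤ : Submodule k V)) (isSubcomod_top (k := k) (C := A)) hV
  letI cS : HopfRep.Comod k A S := ComodSub.Comod.restr inferInstance S hS
  have hi : Hoch.IsComodHom A S.subtype := ComodSub.isComodHom_subtype inferInstance S hS
  have hSs : HopfRep.IsSimpleComod k A S := by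
    refine ⟨Submodule.nontrivial_iff_ne_bot.mpr hS0, fun W hW => ?_⟩
    rcases hSmin _ (isSubcomod_map (C := A) hi hW) (Submodule.map_subtype_le S W) with h0 | h0
    · exact Or.inl (Submodule.map_injective_of_injective S.injective_subtype
        (h0.trans (Submodule.map_bot _).symm))
    · exact Or.inr (Submodule.map_injective_of_injective S.injective_subtype
        (h0.trans (by rw [Submodule.map_top, Submodule.range_subtype])))
  letI cQ : HopfRep.Comod k A (V ⧸ S) := ComodSub.Comod.quot inferInstance S hS
  have hq : Hoch.IsComodHom A S.mkQ := ComodSub.isComodHom_mkQ inferInstance S hS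
  have hlt : Module.finrank k (V ⧸ S) < n := by
    have h1 := Submodule.finrank_quotient_add_finrank S
    have h2 : 0 < Module.finrank k S := by
      rw [pos_iff_ne_zero, Ne, Submodule.finrank_eq_zero]
      exact hS0
    omega
  obtain ⟨m, hm⟩ := ih _ hlt (V := V ⧸ S) rfl
  refine ⟨m + 1, LinearMap.ext fun v => ?_⟩
  have hcomm : ∀ (j : ℕ) (w : V), S.mkQ ((((actF χ.toLinearMap : Module.End k V) - 1) ^ j) w) =
      (((actF χ.toLinearMap : Module.End k (V ⧸ S)) - 1) ^ j) (S.mkQ w) := by
    intro j
    induction j with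
    | zero => intro w; simp
    | succ j ihj =>
      intro w
      rw [pow_succ', pow_succ', Module.End.mul_apply, Module.End.mul_apply, ← ihj]
      simp only [LinearMap.sub_apply, Module.End.one_apply, map_sub, comodHom_actF hq]
  have hmem : (((actF χ.toLinearMap : Module.End k V) - 1) ^ m) v ∈ S := by
    rw [← Submodule.Quotient.mk_eq_zero, ← Submodule.mkQ_apply, hcomm, hm, LinearMap.zero_apply]
  rw [pow_succ', Module.End.mul_apply, LinearMap.sub_apply, Module.End.one_apply, LinearMap.zero_apply, sub_eq_zero]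
  exact (comodHom_actF hi _ (⟨_, hmem⟩ : S)).symm.trans
    (congrArg Subtype.val (h S hSs ⟨_, hmem⟩))

variable [CharZero k]

/-- In characteristic zero, a point of finite order trivial on every simple comodule is trivial. -/
theorem eq_one_of_pow {χ : WithConv (A →ₐ[k] k)} (h : χ ∈ killSubgroup k A) {N : ℕ} (hN : N ≠ 0)
    (hpow : χ ^ N = 1) : χ = 1 := by
  refine WithConv.ofConv_injective (AlgHom.ext fun a => ?_)
  obtain ⟨U, hUf, haU, hU⟩ := exists_finite_subcomod_mem (C := A) (k := k) (V := A) a
  letI cU : HopfRep.Comod k A U := ComodSub.Comod.restr inferInstance U hU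
  let f : Module.End k U := actF χ.ofConv.toLinearMap
  obtain ⟨m, hm⟩ := isNilpotent_sub_one (V := U) h
  have hfN : f ^ N = 1 := by
    have : ∀ j : ℕ, ∀ w : U, (f ^ j) w = actF (χ ^ j).ofConv.toLinearMap w := by
      intro j
      induction j with
      | zero => intro w; rw [pow_zero, pow_zero, Module.End.one_apply, actF_one_alg]
      | succ j ihj => intro w; rw [pow_succ', pow_succ', Module.End.mul_apply, ihj, actF_conv_alg]
    refine LinearMap.ext fun w => ?_
    rw [this, hpow, actF_one_alg, Module.End.one_apply]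
  have hN' : IsUnit ((N : Module.End k U)) := by
    rw [← map_natCast (algebraMap k (Module.End k U))]
    exact (IsUnit.mk0 _ (Nat.cast_ne_zero.mpr hN)).map _
  have hf1 : f = 1 := eq_one_of_isNilpotent_sub_one hN' ⟨m, hm⟩ hfN
  have hi : Hoch.IsComodHom A U.subtype := ComodSub.isComodHom_subtype inferInstance U hU
  have h1 : actF χ.ofConv.toLinearMap a = a :=
    (comodHom_actF hi _ (⟨a, haU⟩ : U)).symm.trans (congrArg Subtype.val (LinearMap.congr_fun hf1 ⟨a, haU⟩))
  have h2 := counit_actF χ.ofConv.toLinearMap a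
  rw [h1, AlgHom.toLinearMap_apply] at h2
  simpa using h2.symm

variable [IsAlgClosed k] [Algebra.FiniteType k A]

/-- If only the identity point kills all simple comodules, no tangent vector does. -/
theorem tang_eq_zero_of_kills (hpts : ∀ χ : A →ₐ[k] k, KillsPt χ → χ = ε) (D : Tang k A)
    (hD : ∀ (V : Type u) [AddCommGroup V] [Module k V] [HopfRep.Comod k A V],
      HopfRep.IsSimpleComod k A V → ∀ v : V, actF (form D) v = 0) : D = 0 := by
  haveI : IsJacobsonRing A := isJacobsonRing_of_finiteType (A := k)
  let J : Ideal A := Ideal.span (gens k A)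
  let L := Cartier0.lieOp (toTan D)
  have hL : ∀ a ∈ J, L a ∈ J := by
    intro a ha
    induction ha using Submodule.span_induction with
    | mem x hx =>
      obtain ⟨V, _, _, _, hV, f, v, rfl⟩ := hx
      show actF (form D) _ ∈ J
      rw [map_sub, map_smul, actF_form_one, smul_zero, sub_zero, ← comodHom_actF (isComodHom_coefFun f),
        hD V hV, map_zero]
      exact J.zero_mem
    | zero => rw [map_zero]; exact J.zero_mem
    | add x y _ _ hx hy => rw [map_add]; exact J.add_mem hx hy
    | smul r x hx hx' =>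
      rw [smul_eq_mul, Cartier0.lieOp_mul]
      exact J.add_mem (J.mul_mem_left _ hx') (J.mul_mem_right _ hx)
  have hJε : J ≤ Cartier0.aug k A := Ideal.span_le.mpr fun a ha =>
    ((killsPt_iff ε).mp (fun V _ _ _ _ v => actF_counit_alg v)) a ha
  have hrad : ∀ a ∈ Cartier0.aug k A, a ∈ J.radical := by
    intro a ha
    rw [Ideal.radical_eq_jacobson, Ideal.jacobson, Ideal.mem_sInf]
    rintro m ⟨hJm, hm⟩
    obtain ⟨χ, hχ⟩ := exists_point (k := k) m hm.ne_top
    have he : χ = ε := hpts χ ((killsPt_iff χ).mpr fun b hb => hχ (hJm (Ideal.subset_span hb)))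
    rw [hm.eq_of_le (RingHom.ker_ne_top _) hχ, he]
    exact ha
  by_contra hne
  obtain ⟨b, hb⟩ : ∃ b, form D b ≠ 0 := by
    by_contra hc
    push Not at hc
    exact hne (Subtype.ext (WithConv.ofConv_injective (LinearMap.ext fun b => hc b)))
  let a := (form D b)⁻¹ • (b - algebraMap k A (ε b))
  have ha : a ∈ Cartier0.aug k A :=
    Submodule.smul_of_tower_mem _ _ (Cartier0.sub_counit_mem b)
  have hDa : form D a = 1 := by
    simp only [a, map_smul, map_sub, Algebra.algebraMap_eq_smul_one, form_one, smul_zero, sub_zero, smul_eq_mul, mul_zero]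
    exact inv_mul_cancel₀ hb
  obtain ⟨N, hN⟩ := hrad a ha
  have hLa : L a - 1 ∈ J.radical := by
    apply hrad
    rw [RingHom.mem_ker, map_sub, map_one]
    show ε (actF (form D) a) - 1 = 0
    rw [counit_actF, hDa, sub_self]
  obtain ⟨M, hM⟩ := hLa
  have hpow : ∀ m : ℕ, L (a ^ (m + 1)) = ((m + 1 : ℕ) : A) * (a ^ m * L a) := by
    intro m
    induction m with
    | zero => simp
    | succ m ih => rw [pow_succ, Cartier0.lieOp_mul, ih]; push_cast; ring
  have down : ∀ m : ℕ, a ^ (m + 1) ∈ J → a ^ m ∈ J := by
    intro m hm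
    have h1 : a ^ m * L a ∈ J := by
      have hu : IsUnit ((m + 1 : ℕ) : A) := by
        rw [← map_natCast (algebraMap k A)]
        exact (IsUnit.mk0 _ (by exact_mod_cast Nat.succ_ne_zero m)).map _
      have := hL _ hm
      rw [hpow] at this
      exact (Ideal.unit_mul_mem_iff_mem _ hu).mp this
    have h2 : ∀ j : ℕ, a ^ m * (1 - (1 - L a) ^ j) ∈ J := fun j => by
      obtain ⟨c, hc⟩ : (1 - (1 - L a)) ∣ (1 : A) ^ j - (1 - L a) ^ j := sub_dvd_pow_sub_pow 1 _ j
      rw [one_pow] at hc
      rw [hc, sub_sub_cancel, ← mul_assoc]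
      exact J.mul_mem_right _ h1
    have h3 : a ^ m * (1 - L a) ^ M ∈ J := J.mul_mem_left _ (by
      rw [show (1 - L a) = -(L a - 1) by ring, neg_pow]
      exact J.mul_mem_left _ hM)
    have := J.add_mem (h2 M) h3
    rwa [mul_sub, mul_one, sub_add_cancel] at this
  have hall : ∀ m : ℕ, a ^ m ∈ J → (1 : A) ∈ J := by
    intro m
    induction m with
    | zero => intro h; simpa using h
    | succ m ih => exact fun h => ih (down m h)
  have h1 : ε (1 : A) = 0 := hJε (hall N hN)
  rw [map_one] at h1
  exact one_ne_zero h1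

end Groth.Agent.RedLR
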