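/-
A linearly reductive connected group has no normal subgroup without subtori.
-/
import Groth.Agent.SolvGrp.Bridge
import Groth.Agent.SolvGrp.Unip
import Groth.Agent.GrpSchLib.LineVec
import Groth.Agent.ComodLib.Push
import Groth.Agent.ComodLib.Reductive
import Groth.Agent.ComodLib.Orbits

set_option backward.isDefEq.respectTransparency false
set_option backward.isDefEq.respectTransparency.types false
set_option linter.style.haveILetI false

universe u

open CategoryTheory MonoidalCategory CartesianMonoidalCategory MonObj AlgebraicGeometry WithConv TensorProduct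

namespace Groth.Agent.RedLR

open ComodLib (actF actF_apply slice coefFun coefFun_apply isSubcomod_iff_actF comodHom_actF)
open GrpSchLib GrpSchLib.Kunneth GrpSchLib.LineGroups WeilCmp.Unip AGFLib SolvGrp

variable {k : Type u} [Field k] [IsAlgClosed k]
  {A : Type u} [CommRing A] [HopfAlgebra k A] [Algebra.FiniteType k A]

local notation "PT" => 𝟙_ (Over (Spec (CommRingCat.of k)))

omit [IsAlgClosed k] [Algebra.FiniteType k A] in
theorem fn_comp_spMap {B : Type u} [CommRing B] [HopfAlgebra k B] {T : Over (Spec (CommRingCat.of k))}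
    (t : T ⟶ AffineHopf.sp k B) (f : A →ₐ[k] B) :
    LineVec.fn (t ≫ AffineHopf.spMap f) = (LineVec.fn t).comp f := by
  conv_lhs => rw [← LineVec.aff_fn t, Category.assoc, AffineHopf.spMap_comp]
  exact LineVec.fn_aff _

variable [_root_.IsReduced A]

/-- Submodules stable under all rational points are subcomodules. -/
theorem isSubcomod_of_pts {V : Type u} [AddCommGroup V] [Module k V] [HopfRep.Comod k A V] (U : Submodule k V)
    (h : ∀ χ : A →ₐ[k] k, ∀ u ∈ U, actF χ.toLinearMap u ∈ U) :
    HopfRep.IsSubcomod (k := k) (A := A) U := by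
  have hcf : ∀ (φ : A →ₗ[k] k) (f : V →ₗ[k] k) (v : V), φ (coefFun (C := A) f v) = f (actF φ v) := fun φ f v => by
    rw [coefFun_apply, actF_apply]
    induction HopfRep.Comod.coact (k := k) (A := A) v using TensorProduct.induction_on with
    | zero => simp
    | tmul p q => simp [_root_.mul_comm]
    | add p q hp hq => simp only [map_add, hp, hq]
  rw [isSubcomod_iff_actF]
  intro φ u hu
  rw [← Submodule.Quotient.mk_eq_zero]
  by_contra hne
  obtain ⟨f, hf⟩ := Module.Projective.exists_dual_ne_zero k hne
  have h0 : coefFun (C := A) (f ∘ₗ U.mkQ) u = 0 := by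
    by_contra h0
    obtain ⟨χ, hχ⟩ := ComodLib.exists_point_ne_zero (k := k)
      (fun hn => h0 (IsReduced.eq_zero _ hn))
    refine hχ ?_
    rw [← AlgHom.toLinearMap_apply, hcf]
    simp [(Submodule.Quotient.mk_eq_zero U).mpr (h χ u hu)]
  apply hf
  have h1 := hcf φ (f ∘ₗ U.mkQ) u
  rw [h0, map_zero] at h1
  exact h1.symm

/-- The points of a normal subgroup without subtori act trivially on simple comodules. -/
theorem actF_eq_self_of_isSimpleComod
    [Smooth (AffineHopf.sp k A).hom]
    (U : Over (Spec (CommRingCat.of k))) [GrpObj U] (i : U ⟶ AffineHopf.sp k A) [IsMonHom i]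
    [IsClosedImmersion i.left] [Smooth U.hom] [ConnectedSpace U.left] (hn : AlgGrp.IsNormalHom i)
    (hU : Red.HasNoSubtorus k U) {V : Type u} [AddCommGroup V] [Module k V] [cV : HopfRep.Comod k A V]
    (hV : HopfRep.IsSimpleComod k A V) (u : PT ⟶ U) (v : V) :
    actF (ptsEquiv (A := A) (Iso.refl (Grp.mk (AffineHopf.sp k A))) (u ≫ i)).ofConv.toLinearMap v = v := by
  revert u v
  haveI : IsReduced (AffineHopf.sp k A).left := isReduced_of_smooth_field (AffineHopf.sp k A).hom
  obtain ⟨haffU, -, -, hmono, -⟩ := sub_props i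
  haveI := haffU
  haveI := hmono
  haveI : IsReduced U.left := isReduced_of_smooth_field U.hom
  obtain ⟨B, _, _, ⟨e⟩⟩ := AffineHopf.exists_hopf U
  haveI : Algebra.FiniteType k B := by
    haveI := finiteType_fn U
    exact (inferInstance : Algebra.FiniteType k (Fn U)).equiv (coordEquiv e).symm
  haveI : IsReduced B := isReduced_of_injective (coordEquiv e) (coordEquiv e).injective
  have hB : HopfRep.IsUnipotent k B := isUnipotent_of_pts e (isUnipPt_of_hasNoSubtorus hU)
  haveI : IsMonHom (coordIso e).hom := e.hom.hom.isMonHom_hom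
  haveI : IsMonHom ((coordIso e).hom ≫ i) := inferInstance
  obtain ⟨f, hf⟩ := AffineHopf.exists_bialgHom ((coordIso e).hom ≫ i)
  let eG : Grp.mk (AffineHopf.sp k A) ≅ Grp.mk (AffineHopf.sp k A) := Iso.refl _
  let Φ := ptsEquiv (A := A) eG
  have hcoord : ∀ a : A, coordEquiv eG a = LineVec.toFn (k := k) (A := A) a := fun a => ev_id _
  have hΦu : ∀ (u : PT ⟶ U) (a : A),
      (Φ (u ≫ i)).ofConv a = (ptsEquiv e u).ofConv (f a) := by
    intro u a
    have h1 : LineVec.fn (u ≫ i) = (LineVec.fn (u ≫ (coordIso e).inv)).comp (f : A →ₐ[k] B) := by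
      rw [← fn_comp_spMap, ← hf, Category.assoc, Iso.inv_hom_id_assoc]
    rw [show (Φ (u ≫ i)).ofConv a = vl (u ≫ i) (coordEquiv eG a) from rfl, hcoord]
    show ProjAct.toK (LineVec.fn (u ≫ i) a) = _
    rw [h1]
    rfl
  haveI : Module.Finite k V := ComodLib.finite_of_isSimpleComod hV
  haveI : Nontrivial V := hV.1
  let W : Submodule k V := ⨅ u : PT ⟶ U,
    LinearMap.ker ((actF (Φ (u ≫ i)).ofConv.toLinearMap : Module.End k V) - 1)
  have hW : ∀ v, v ∈ W ↔ ∀ u : PT ⟶ U, actF (Φ (u ≫ i)).ofConv.toLinearMap v = v := fun v => by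
    simp [W, sub_eq_zero]
  have hWs : HopfRep.IsSubcomod (k := k) (A := A) W := by
    refine isSubcomod_of_pts W fun χ v hv => ?_
    rw [hW] at hv ⊢
    intro u
    obtain ⟨g, hg⟩ := (ptsEquiv_bijective (A := A) eG).2 (toConv χ)
    obtain ⟨u', hu'⟩ := hn PT g⁻¹ u
    rw [inv_inv] at hu'
    have h2 : Φ (u ≫ i) * Φ g = Φ g * Φ (u' ≫ i) := by
      rw [← map_mul, ← map_mul, ← hu']
      congr 1
      rw [_root_.mul_assoc g⁻¹, mul_inv_cancel_left]
    have hm : ∀ (a b : WithConv (A →ₐ[k] k)) (w : V),
        actF (a * b).ofConv.toLinearMap w = actF a.ofConv.toLinearMap (actF b.ofConv.toLinearMap w) := fun a b w => by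
      rw [show (a * b).ofConv.toLinearMap = (toConv a.ofConv.toLinearMap * toConv b.ofConv.toLinearMap).ofConv from
        congrArg WithConv.ofConv (AlgHom.toLinearMap_convMul a b)]
      exact ComodLib.actF_convMul _ _ w
    have h3 : χ = (Φ g).ofConv := by
      show χ = ((ptsEquiv eG) g).ofConv
      rw [hg]
    rw [h3, ← hm, h2, hm, hv u']
  rcases hV.2 W hWs with h0 | h0
  · exfalso
    letI cB : HopfRep.Comod k B V := ComodLib.pushComod (f : A →ₗc[k] B) cV
    refine hB V inferInstance hV.1 ((Submodule.eq_bot_iff _).mpr fun v hv => ?_)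
    rw [← Submodule.mem_bot k, ← h0, hW]
    intro u
    have hv' : HopfRep.Comod.coact (k := k) (A := B) v = v ⊗ₜ[k] (1 : B) := hv
    have h1 := ComodLib.actF_comp_of_push (f : A →ₗc[k] B) (V := V) rfl (ptsEquiv e u).ofConv.toLinearMap v
    rw [actF_apply, hv', ComodLib.slice_tmul, AlgHom.toLinearMap_apply, map_one, one_smul] at h1
    refine Eq.trans ?_ h1.symm
    refine congrArg (fun φ => actF φ v) (LinearMap.ext fun a => ?_)
    exact hΦu u a
  · intro u v
    exact (hW v).mp (h0 ▸ Submodule.mem_top) u

/-- The points of a normal subgroup without subtori act trivially on semisimple comodules. -/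
theorem actF_eq_self_of_isSemisimpleComod
    [Smooth (AffineHopf.sp k A).hom]
    (U : Over (Spec (CommRingCat.of k))) [GrpObj U] (i : U ⟶ AffineHopf.sp k A) [IsMonHom i]
    [IsClosedImmersion i.left] [Smooth U.hom] [ConnectedSpace U.left] (hn : AlgGrp.IsNormalHom i)
    (hU : Red.HasNoSubtorus k U) {V : Type u} [AddCommGroup V] [Module k V] [HopfRep.Comod k A V]
    (hss : HopfRep.IsSemisimpleComod k A V) (u : PT ⟶ U) (x : V) :
    actF (ptsEquiv (A := A) (Iso.refl (Grp.mk (AffineHopf.sp k A))) (u ≫ i)).ofConv.toLinearMap x = x := by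
  obtain ⟨s, hs, -, htop⟩ := ComodLib.exists_minimal_decomposition (C := A) hss
  have hx : x ∈ ⨆ T : s, (T : Submodule k V) := htop ▸ Submodule.mem_top
  induction hx using Submodule.iSup_induction' with
  | mem T y hy =>
    letI cT : HopfRep.Comod k A (T : Submodule k V) := ComodSub.Comod.restr inferInstance _ (hs _ T.2).1
    have hi : Hoch.IsComodHom A (T : Submodule k V).subtype :=
      ComodSub.isComodHom_subtype inferInstance _ (hs _ T.2).1
    have hT : HopfRep.IsSimpleComod k A (T : Submodule k V) := by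
      refine ⟨Submodule.nontrivial_iff_ne_bot.mpr (hs _ T.2).2.1, fun P hP => ?_⟩
      rcases (hs _ T.2).2.2 _ (ComodLib.isSubcomod_map (C := A) hi hP) (Submodule.map_subtype_le _ P) with h0 | h0
      · exact Or.inl (Submodule.map_injective_of_injective (Submodule.injective_subtype _)
          (h0.trans (Submodule.map_bot _).symm))
      · exact Or.inr (Submodule.map_injective_of_injective (Submodule.injective_subtype _)
          (h0.trans (by rw [Submodule.map_top, Submodule.range_subtype])))
    exact (comodHom_actF hi _ (⟨y, hy⟩ : (T : Submodule k V))).symm.trans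
      (congrArg Subtype.val (actF_eq_self_of_isSimpleComod U i hn hU hT u ⟨y, hy⟩))
  | zero => exact map_zero _
  | add p q _ _ hp hq => rw [map_add, hp, hq]

/-- In a linearly reductive group a normal subgroup without subtori is trivial. -/
theorem isTrivialGrp_of_isLinearlyReductive (hlr : HopfRep.IsLinearlyReductive k A)
    [Smooth (AffineHopf.sp k A).hom]
    (U : Over (Spec (CommRingCat.of k))) [GrpObj U] (i : U ⟶ AffineHopf.sp k A) [IsMonHom i]
    [IsClosedImmersion i.left] [Smooth U.hom] [ConnectedSpace U.left] (hn : AlgGrp.IsNormalHom i)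
    (hU : Red.HasNoSubtorus k U) : Red.IsTrivialGrp U := by
  haveI : IsReduced (AffineHopf.sp k A).left := isReduced_of_smooth_field (AffineHopf.sp k A).hom
  obtain ⟨haffU, -, -, hmono, -⟩ := sub_props i
  haveI := haffU
  haveI := hmono
  haveI : IsReduced U.left := isReduced_of_smooth_field U.hom
  let eG : Grp.mk (AffineHopf.sp k A) ≅ Grp.mk (AffineHopf.sp k A) := Iso.refl _
  let Φ := ptsEquiv (A := A) eG
  refine isTrivialGrp_of_pts fun u => ?_
  apply (cancel_mono i).mp
  rw [MonObj.one_comp]
  apply (ptsEquiv_bijective (A := A) eG).1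
  rw [map_one]
  refine WithConv.ofConv_injective (AlgHom.ext fun a => ?_)
  have hall : ∀ x : A, actF (Φ (u ≫ i)).ofConv.toLinearMap x = x :=
    actF_eq_self_of_isSemisimpleComod U i hn hU
      (ComodLib.isSemisimpleComod_of_isLinearlyReductive (V := A) hlr) u
  have h1 : Bialgebra.counitAlgHom k A (actF (Φ (u ≫ i)).ofConv.toLinearMap a) = (Φ (u ≫ i)).ofConv a := by
    have key : ∀ y : A ⊗[k] A, Bialgebra.counitAlgHom k A (slice (Φ (u ≫ i)).ofConv.toLinearMap y) =
        (Φ (u ≫ i)).ofConv (TensorProduct.lid k A ((Coalgebra.counit (R := k)).rTensor A y)) := fun y => by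
      induction y using TensorProduct.induction_on with
      | zero => simp
      | tmul p q => simp [_root_.mul_comm]
      | add p q hp hq => simp only [map_add, hp, hq]
    refine (key _).trans ?_
    rw [show HopfRep.Comod.coact (k := k) (A := A) a = Coalgebra.comul (R := k) a from rfl,
      Coalgebra.rTensor_counit_comul]
    simp
  rw [hall] at h1
  rw [show (1 : WithConv (A →ₐ[k] k)).ofConv a = Bialgebra.counitAlgHom k A a by simp]
  exact h1.symm

end Groth.Agent.RedLR
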