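/-
For a reductive group in characteristic zero the common kernel of the simple representations is trivial.
-/
import Groth.Agent.RedLR.Kernel
import Groth.Agent.SolvGrp.Bridge
import Groth.Agent.SolvGrp.TorusPts
import Groth.Agent.SolvGrp.Unip
import Groth.Agent.AGFLib.QuasiComp.IdComp

set_option backward.isDefEq.respectTransparency false
set_option backward.isDefEq.respectTransparency.types false
set_option linter.style.haveILetI false

universe u

open CategoryTheory MonoidalCategory CartesianMonoidalCategory MonObj AlgebraicGeometry WithConv TensorProduct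

namespace Groth.Agent.RedLR

open ComodLib (actF exists_finite_subcomod_mem comodHom_actF)
open GrpSchLib GrpSchLib.Kunneth GrpSchLib.LineGroups WeilCmp.Unip AGFLib AGFLib.Gen AGFLib.BorelFixed SolvGrp

variable {k : Type u} [Field k] [IsAlgClosed k] [CharZero k]
  {A : Type u} [CommRing A] [HopfAlgebra k A] [Algebra.FiniteType k A] [IsDomain A]

local notation "PT" => 𝟙_ (Over (Spec (CommRingCat.of k)))

/-- The common kernel of the simple representations of a reductive group is trivial. -/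
theorem killsPt_eq_counit (hG : Red.IsReductiveOver k (AffineHopf.sp k A)) (χ : A →ₐ[k] k) (hχ : KillsPt χ) :
    χ = Bialgebra.counitAlgHom k A := by
  obtain ⟨haffG, hsmG, hconnG, hrad⟩ := hG
  haveI := haffG
  haveI := hsmG
  haveI := hconnG
  haveI : IsReduced (AffineHopf.sp k A).left := isReduced_of_smooth_field (AffineHopf.sp k A).hom
  haveI : QuasiCompact (AffineHopf.sp k A).hom :=
    inferInstanceAs (QuasiCompact (Spec.map (CommRingCat.ofHom (algebraMap k A))))
  let e : Grp.mk (AffineHopf.sp k A) ≅ Grp.mk (AffineHopf.sp k A) := Iso.refl _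
  let Φ := ptsEquiv (A := A) e
  have hΦb := ptsEquiv_bijective (A := A) e
  let Γ : Subgroup (PT ⟶ AffineHopf.sp k A) := (killSubgroup k A).comap Φ
  have hΓn : Γ.Normal := inferInstance
  have hΓc : PtsClosed (Γ : Set (PT ⟶ AffineHopf.sp k A)) := by
    have he : (Γ : Set (PT ⟶ AffineHopf.sp k A)) =
        {g | ∀ f ∈ coordEquiv e '' gens k A, vl g f = 0} := by
      ext g
      simp only [SetLike.mem_coe, Γ, Subgroup.mem_comap, mem_killSubgroup, killsPt_iff, Set.forall_mem_image,
        Set.mem_ofPred_eq]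
      rfl
    rw [he]
    exact ptsClosed_zero _
  have hunip : ∀ g ∈ Γ, IsUnipPt g := by
    intro g hg
    have hk : KillsPt (Φ g).ofConv := hg
    intro f
    obtain ⟨a, rfl⟩ := (coordEquiv e).surjective f
    obtain ⟨W, hWf, haW, hW⟩ := exists_finite_subcomod_mem (C := A) (k := k) (V := A) a
    letI cW : HopfRep.Comod k A W := ComodSub.Comod.restr inferInstance W hW
    have hi : Hoch.IsComodHom A W.subtype := ComodSub.isComodHom_subtype inferInstance W hW
    obtain ⟨n, hn⟩ := isNilpotent_sub_one (V := W) hk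
    refine ⟨n, ?_⟩
    have hstep : ∀ b : A, rl g (coordEquiv e b) = coordEquiv e (actF (Φ g).ofConv.toLinearMap b) := fun b =>
      eq_of_vl fun x => by
        show vl x (rt g _) = _
        rw [vl_rt, ← ptsEquiv_apply, map_mul, ← ptsEquiv_apply]
        show ((Φ x * Φ g).ofConv.toLinearMap) b = (Φ x).ofConv.toLinearMap _
        rw [show (Φ x * Φ g).ofConv.toLinearMap =
          (toConv (Φ x).ofConv.toLinearMap * toConv (Φ g).ofConv.toLinearMap).ofConv from
            congrArg WithConv.ofConv (AlgHom.toLinearMap_convMul (Φ x) (Φ g)), conv_apply]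
    have key : ∀ (j : ℕ) (w : W), ((rl g - 1) ^ j) (coordEquiv e (w : A)) =
        coordEquiv e (((((actF (Φ g).ofConv.toLinearMap : Module.End k W) - 1) ^ j) w : W) : A) := by
      intro j
      induction j with
      | zero => intro w; simp
      | succ j ih =>
        intro w
        rw [pow_succ', pow_succ', Module.End.mul_apply, Module.End.mul_apply, ih]
        simp only [LinearMap.sub_apply, Module.End.one_apply, hstep, ← map_sub, Submodule.coe_sub]
        exact congrArg (coordEquiv e) (congrArg (· - _) (comodHom_actF hi _ _).symm)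
    rw [key n ⟨a, haW⟩, hn]
    simp
  obtain ⟨D, _, i, hi, hci, hsm, haff, hr⟩ := exists_sub Γ hΓc
  haveI := hi
  haveI := hci
  haveI := hsm
  haveI := haff
  obtain ⟨-, hlftD, hqcD, hmonoD, -⟩ := sub_props i
  haveI := hlftD
  haveI := hqcD
  haveI := hmonoD
  obtain ⟨C, _, j, hj, hjc, -, hsC, hqC, hcC, -, -, hfac⟩ := AGFLib.QuasiComp.exists_openIdComp (G := D)
  haveI := hj
  haveI := hjc
  haveI := hsC
  haveI := hqC
  haveI := hcC
  haveI : IsClosedImmersion (j ≫ i).left := inferInstanceAs (IsClosedImmersion (j.left ≫ i.left))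
  haveI : Mono (j ≫ i) := BorelExist.mono_of_closedImmersion _
  haveI : IsReduced C.left := isReduced_of_smooth_field C.hom
  have hmem : ∀ x : PT ⟶ C, x ≫ j ≫ i ∈ Γ := fun x => hr ▸ ⟨x ≫ j, Category.assoc _ _ _⟩
  have hcj : ∀ g x : PT ⟶ AffineHopf.sp k A, x ≫ AGFLib.Borel.conjM g = g * x * g⁻¹ := fun g x => by
    rw [AGFLib.Borel.comp_conjM, toUnit_unique (toUnit PT) (𝟙 _), Category.id_comp]
  have hnorm : AlgGrp.IsNormalHom (j ≫ i) := LinPart.isNormal_of_pts (j ≫ i) fun g n => by
    obtain ⟨d, hd⟩ := BorelExist.exists_lift_pts i ((j ≫ i) ≫ AGFLib.Borel.conjM g) fun t => by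
      have h1 : g * (t ≫ j ≫ i) * g⁻¹ ∈ rangePts i := hr.symm ▸ hΓn.conj_mem _ (hmem t) g
      obtain ⟨z, hz⟩ := h1
      exact ⟨z, by rw [← Category.assoc t, hcj]; exact hz⟩
    obtain ⟨l, hl⟩ := hfac d ⟨cp (1 : PT ⟶ C), by
      rw [← cp_comp]
      congr 1
      apply (cancel_mono i).mp
      rw [Category.assoc, hd, ← Category.assoc, MonObj.one_comp, hcj, _root_.mul_one, mul_inv_cancel,
        MonObj.one_comp]⟩
    refine ⟨n ≫ l, ?_⟩
    rw [Category.assoc, ← Category.assoc l, hl, hd, ← Category.assoc n (j ≫ i), hcj]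
  have hnt : Red.HasNoSubtorus k C := by
    intro T _ t _ _ hT
    haveI : IsAffine T.left := (torus_props hT).1
    haveI : Smooth T.hom := (torus_props hT).2.1
    haveI : IsReduced T.left := isReduced_of_smooth_field T.hom
    refine isTrivialGrp_of_pts fun x => ?_
    have hu : IsUnipPt (x ≫ (t ≫ j ≫ i)) := hunip _ (by
      rw [← Category.assoc x]
      exact hmem (x ≫ t))
    have h1 := eq_one_of_isSsPt_isUnipPt (isSsPt_of_torus hT (t ≫ j ≫ i) x) hu
    apply (cancel_mono (t ≫ j ≫ i)).mp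
    rw [h1, MonObj.one_comp]
  have htriv := hrad C (j ≫ i) inferInstance hsC hcC hnorm hnt
  obtain ⟨D₀, _, i₀, hi₀, hci₀, hsm₀, hc₀, -, hle, S, hSf, -, hcov⟩ := exists_connSub Γ hΓc
  haveI := hi₀
  haveI := hci₀
  haveI := hsm₀
  haveI := hc₀
  haveI : IsReduced D₀.left := isReduced_of_smooth_field D₀.hom
  obtain ⟨d₀, hd₀⟩ := BorelExist.exists_lift_pts i i₀ fun t => by
    obtain ⟨z, hz⟩ : t ≫ i₀ ∈ rangePts i := hr.symm ▸ hle ⟨t, rfl⟩
    exact ⟨z, hz⟩
  obtain ⟨l₀, hl₀⟩ := hfac d₀ ⟨cp (1 : PT ⟶ D₀), by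
    rw [← cp_comp]
    congr 1
    apply (cancel_mono i).mp
    rw [Category.assoc, hd₀, MonObj.one_comp, MonObj.one_comp]⟩
  have hone : ∀ x : PT ⟶ D₀, x ≫ i₀ = 1 := fun x => by
    rw [← hd₀, ← hl₀, ← Category.assoc, ← Category.assoc, pt_eq_one_of_trivial htriv (x ≫ l₀), MonObj.one_comp,
      MonObj.one_comp]
  have hfin : (Γ : Set (PT ⟶ AffineHopf.sp k A)).Finite := hSf.subset fun g hg => by
    obtain ⟨s, hs, x, hx⟩ := hcov g hg
    have h1 : s⁻¹ * g = 1 := hx.symm.trans (hone x)
    rwa [← inv_mul_eq_one.mp h1]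
  obtain ⟨g, hg⟩ := hΦb.2 (toConv χ)
  have hgΓ : g ∈ Γ := by
    show KillsPt (Φ g).ofConv
    rw [show Φ g = toConv χ from hg]
    exact hχ
  haveI := hfin.to_subtype
  have hpow : Φ g ^ Nat.card Γ = 1 := by
    rw [← map_pow]
    have h2 : (⟨g, hgΓ⟩ : Γ) ^ Nat.card Γ = 1 := pow_card_eq_one'
    rw [show g ^ Nat.card Γ = 1 from congrArg Subtype.val h2, map_one]
  have h3 := eq_one_of_pow (χ := Φ g) hgΓ Nat.card_pos.ne' hpow
  rw [show Φ g = toConv χ from hg] at h3
  refine AlgHom.ext fun a => ?_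
  have h4 := congrArg (fun z : WithConv (A →ₐ[k] k) => z.ofConv a) h3
  simpa using h4

end Groth.Agent.RedLR
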