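/-
Weyl's lemma: for a Lie algebra with trivial radical in characteristic zero, a module whose
brackets land in a proper submodule has an invariant vector outside that submodule.
-/
import Mathlib.Algebra.Lie.CartanCriterion
import Mathlib.Algebra.Lie.Semisimple.Lemmas
import Mathlib.Algebra.Lie.Engel
import Mathlib.LinearAlgebra.BilinearForm.Properties

namespace Groth.Agent.RedLR

open LieModule LieAlgebra Module

attribute [local instance 100] LieRing.ofAssociativeRing LieAlgebra.ofAssociativeAlgebra

universe u v w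

variable {K : Type u} [Field K] [CharZero K] {L : Type v} [LieRing L] [LieAlgebra K L]
  [Module.Finite K L]

/-- In a Lie algebra with trivial radical every ideal is perfect. -/
theorem lie_ideal_perfect [HasTrivialRadical K L] (I : LieIdeal K L) : ⁅I, I⁆ = I := by
  have hle : ⁅I, I⁆ ≤ I := LieSubmodule.lie_le_left I I
  set J : LieIdeal K L := ⁅I, I⁆ with hJ
  set J' : LieIdeal K L := LieIdeal.killingCompl K L J with hJ'
  have hbot : I ⊓ J' = ⊥ := by
    have : IsSolvable (I ⊓ J' : LieIdeal K L) := by
      apply LieIdeal.isSolvable_of_killingForm_apply_lie_eq_zero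
      intro x hx y hy
      have hy' : y ∈ J :=
        LieSubmodule.mono_lie (M := L) inf_le_left inf_le_left hy
      have hx' : x ∈ J' := hx.2
      rw [hJ', LieIdeal.mem_killingCompl] at hx'
      rw [LieModule.traceForm_comm]
      exact hx' y hy'
    exact HasTrivialRadical.eq_bot_of_isSolvable _
  apply LieSubmodule.toSubmodule_injective
  apply Submodule.eq_of_le_of_finrank_le (by exact hle)
  have hnd := IsKilling.killingForm_nondegenerate K L
  have hdim : finrank K J'.toSubmodule + finrank K J.toSubmodule = finrank K L := by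
    have h1 : J'.toSubmodule = (killingForm K L).orthogonal J.toSubmodule := by
      simp [hJ', LieIdeal.toSubmodule_killingCompl]
    rw [h1, LinearMap.BilinForm.finrank_orthogonal hnd]
    have := Submodule.finrank_le J.toSubmodule
    omega
  have hd : Disjoint I.toSubmodule J'.toSubmodule := by
    rw [LieSubmodule.disjoint_toSubmodule, disjoint_iff]
    exact hbot
  have := Submodule.finrank_add_finrank_le_of_disjoint hd
  omega

/-- An ideal of a semisimple Lie algebra with vanishing trace form acts by zero. -/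
theorem lie_eq_zero_of_mem_traceRadical [HasTrivialRadical K L]
    {V : Type w} [AddCommGroup V] [Module K V] [LieRingModule L V] [LieModule K L V]
    [Module.Finite K V] (I : LieIdeal K L)
    (h : ∀ x ∈ I, ∀ y ∈ I, traceForm K L V x y = 0) :
    ∀ x ∈ I, ∀ m : V, ⁅x, m⁆ = 0 := by
  have htf : traceForm K I V = 0 := by
    ext ⟨x, hx⟩ ⟨y, hy⟩
    exact h x hx y hy
  have hnil := LieModule.isNilpotent_derivedSeries_of_traceForm_eq_zero htf
  have hperf := lie_ideal_perfect I
  have hD : derivedSeries K I 1 = ⊤ := by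
    rw [LieIdeal.derivedSeries_eq_derivedSeriesOfIdeal_comap,
      LieAlgebra.derivedSeriesOfIdeal_succ, LieAlgebra.derivedSeriesOfIdeal_zero, hperf]
    exact LieIdeal.comap_incl_self I
  have hnilI : LieModule.IsNilpotent I V := by
    rw [LieModule.isNilpotent_iff_forall' (R := K)] at hnil ⊢
    intro x
    exact hnil ⟨x, by rw [hD]; exact LieSubmodule.mem_top x⟩
  obtain ⟨n, hn⟩ := LieModule.IsNilpotent.nilpotent K I V
  have key : ∀ n : ℕ, ∀ (x : I) (m : V), ⁅x, m⁆ ∈ lowerCentralSeries K I V n := by
    intro n
    induction n with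
    | zero => intro x m; simp
    | succ n ih =>
      intro x m
      have hx : x ∈ (derivedSeries K I 1) := by rw [hD]; exact LieSubmodule.mem_top x
      rw [LieAlgebra.derivedSeries_def, LieAlgebra.derivedSeriesOfIdeal_succ,
        LieAlgebra.derivedSeriesOfIdeal_zero] at hx
      rw [← LieSubmodule.mem_toSubmodule, LieSubmodule.lieIdeal_oper_eq_linear_span'] at hx
      induction hx using Submodule.span_induction generalizing m with
      | mem z hz =>
        obtain ⟨a, -, b, -, rfl⟩ := hz
        rw [lie_lie, lowerCentralSeries_succ]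
        exact sub_mem (LieSubmodule.lie_mem_lie (LieSubmodule.mem_top a) (ih b m))
          (LieSubmodule.lie_mem_lie (LieSubmodule.mem_top b) (ih a m))
      | zero => simp
      | add a b _ _ ha hb => rw [add_lie]; exact add_mem (ha m) (hb m)
      | smul c a _ ha => rw [smul_lie]; exact SMulMemClass.smul_mem c (ha m)
  intro x hx m
  have := key n ⟨x, hx⟩ m
  rw [hn] at this
  simpa using this

/-- Irreducible step: if `⁅L, V⁆ ⊆ W` with `W` minimal, there is an invariant vector outside. -/
theorem exists_invariant_of_irreducible [HasTrivialRadical K L]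
    {V : Type w} [AddCommGroup V] [Module K V] [LieRingModule L V] [LieModule K L V]
    [Module.Finite K V] (W : LieSubmodule K L V) (hW : W ≠ ⊤)
    (hLV : ∀ (x : L) (m : V), ⁅x, m⁆ ∈ W)
    (hirr : ∀ W' : LieSubmodule K L V, W' < W → W' = ⊥) :
    ∃ v : V, v ∉ W ∧ ∀ x : L, ⁅x, v⁆ = 0 := by
  obtain ⟨v₀, hv₀⟩ : ∃ v₀, v₀ ∉ W := by
    by_contra hc
    push Not at hc
    exact hW (by ext m; simp [hc m])
  let ρ : L →ₗ[K] Module.End K V := (toEnd K L V).toLinearMap
  let gg : Submodule K (Module.End K V) := LinearMap.range ρ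
  by_cases hg : gg = ⊥
  · refine ⟨v₀, hv₀, fun x => ?_⟩
    have hx : ρ x ∈ gg := LinearMap.mem_range_self ρ x
    rw [hg, Submodule.mem_bot] at hx
    simpa [ρ] using LinearMap.congr_fun hx v₀
  let B : LinearMap.BilinForm K gg :=
    LinearMap.mk₂ K (fun a b => LinearMap.trace K V ((a : Module.End K V) * b))
      (fun a a' b => by simp [add_mul]) (fun c a b => by simp)
      (fun a b b' => by simp [mul_add]) (fun c a b => by simp)
  have hBsymm : ∀ a b, B a b = B b a := fun a b => LinearMap.trace_mul_comm K _ _
  have hnd : B.Nondegenerate := by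
    refine (LinearMap.IsRefl.nondegenerate_iff_separatingLeft
      (fun a b h => by rwa [hBsymm])).mpr ?_
    rintro ⟨a, x, rfl⟩ ha
    let R0 : LieIdeal K L :=
      InvariantForm.orthogonal (traceForm K L V) (traceForm_lieInvariant K L V) ⊤
    have hxR : x ∈ R0 := by
      rw [InvariantForm.mem_orthogonal]
      intro y _
      rw [traceForm_comm]
      exact ha ⟨ρ y, y, rfl⟩
    have := lie_eq_zero_of_mem_traceRadical (V := V) R0 (fun a ha b _ => by
      rw [InvariantForm.mem_orthogonal] at ha
      rw [traceForm_comm]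
      exact ha b (LieSubmodule.mem_top b)) x hxR
    ext1
    ext m
    simpa [ρ] using this m
  let b := Module.finBasis K gg
  let b' := B.dualBasis hnd b
  let Ω : Module.End K V := ∑ i, (b i : Module.End K V) * (b' i : Module.End K V)
  have hmemW : ∀ (a : gg) (m : V), (a : Module.End K V) m ∈ W := by
    rintro ⟨_, x, rfl⟩ m
    exact hLV x m
  have hΩW : ∀ m, Ω m ∈ W := by
    intro m
    simp only [Ω, LinearMap.sum_apply, Module.End.mul_apply]
    exact sum_mem fun i _ => hmemW _ _
  have hcomm : ∀ y : L, ρ y * Ω = Ω * ρ y := by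
    intro y
    have hbr : ∀ a : gg, ρ y * a - (a : Module.End K V) * ρ y ∈ gg := by
      rintro ⟨_, x, rfl⟩
      refine ⟨⁅y, x⁆, ?_⟩
      simp [ρ, Ring.lie_def]
    let c : gg → gg := fun a => ⟨_, hbr a⟩
    have hinv : ∀ a d, B (c a) d = - B a (c d) := by
      intro a d
      simp only [B, c, LinearMap.mk₂_apply, sub_mul, mul_sub, map_sub]
      have e1 : LinearMap.trace K V (ρ y * (a : Module.End K V) * d) =
          LinearMap.trace K V ((a : Module.End K V) * ((d : Module.End K V) * ρ y)) := by
        rw [mul_assoc, LinearMap.trace_mul_comm, mul_assoc]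
      have e2 : LinearMap.trace K V ((a : Module.End K V) * ρ y * d) =
          LinearMap.trace K V ((a : Module.End K V) * (ρ y * (d : Module.End K V))) := by
        rw [mul_assoc]
      linear_combination e1 - e2
    let A : Fin (finrank K gg) → Fin (finrank K gg) → K := fun i j => B (b' j) (c (b i))
    have hb : ∀ i, c (b i) = ∑ j, A i j • b j := by
      intro i
      apply b.repr.injective
      ext j
      rw [map_sum]
      simp only [map_smul, b.repr_self, Finsupp.coe_finset_sum, Finset.sum_apply,
        Finsupp.smul_single, smul_eq_mul, mul_one, Finsupp.single_apply,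
        Finset.sum_ite_eq', Finset.mem_univ, if_true]
      simp only [A]
      conv_rhs => rw [← b.sum_repr (c (b i))]
      rw [map_sum]
      simp [b', LinearMap.BilinForm.apply_dualBasis_left, eq_comm]
    have hb' : ∀ i, c (b' i) = -∑ j, A j i • b' j := by
      intro i
      apply b'.repr.injective
      ext j
      rw [map_neg, map_sum]
      simp only [Finsupp.coe_neg, Pi.neg_apply, map_smul, b'.repr_self, Finsupp.coe_finset_sum,
        Finset.sum_apply, Finsupp.smul_single, smul_eq_mul, mul_one, Finsupp.single_apply,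
        Finset.sum_ite_eq', Finset.mem_univ, if_true]
      rw [LinearMap.BilinForm.dualBasis_repr_apply, hinv]
    have hval : ∀ a : gg, ρ y * (a : Module.End K V) = (a : Module.End K V) * ρ y + c a := by
      intro a; simp [c]
    have : ρ y * Ω - Ω * ρ y = 0 := by
      simp only [Ω, Finset.mul_sum, Finset.sum_mul, ← Finset.sum_sub_distrib]
      calc ∑ i, (ρ y * ((b i : Module.End K V) * b' i) - (b i : Module.End K V) * b' i * ρ y)
          = ∑ i, ((c (b i) : Module.End K V) * b' i + (b i : Module.End K V) * c (b' i)) := by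
            refine Finset.sum_congr rfl fun i _ => ?_
            rw [← mul_assoc, hval, add_mul, mul_assoc _ (ρ y), hval, mul_add, mul_assoc]
            abel
        _ = 0 := by
            simp only [hb, hb', Submodule.coe_sum, Submodule.coe_smul, Submodule.coe_neg,
              mul_neg, Finset.mul_sum, Finset.sum_mul, smul_mul_assoc, mul_smul_comm,
              Finset.sum_add_distrib, Finset.sum_neg_distrib]
            rw [Finset.sum_comm, add_neg_cancel]
    exact sub_eq_zero.mp this
  have htr : LinearMap.trace K V Ω = (finrank K gg : K) := by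
    simp only [Ω, map_sum]
    calc ∑ i, LinearMap.trace K V ((b i : Module.End K V) * b' i)
        = ∑ i, B (b' i) (b i) := Finset.sum_congr rfl fun i _ => (hBsymm (b i) (b' i))
      _ = _ := by simp [b', LinearMap.BilinForm.apply_dualBasis_left]
  have hne : LinearMap.trace K V Ω ≠ 0 := by
    rw [htr, Nat.cast_ne_zero]
    exact fun h => hg (Submodule.finrank_eq_zero.mp h)
  have hcommApply : ∀ (x : L) (m : V), ⁅x, Ω m⁆ = Ω ⁅x, m⁆ := fun x m =>
    LinearMap.congr_fun (hcomm x) m
  let Z : LieSubmodule K L V :=
    { toSubmodule := W.toSubmodule ⊓ LinearMap.ker Ω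
      lie_mem := fun {x m} hm => ⟨hLV x m, by
        have h2 : Ω m = 0 := hm.2
        change Ω ⁅x, m⁆ = 0
        rw [← hcommApply, h2, lie_zero]⟩ }
  have hZW : Z < W := by
    refine lt_of_le_of_ne (fun m hm => hm.1) fun he => hne ?_
    apply (LinearMap.isNilpotent_trace_of_isNilpotent (R := K) ?_).eq_zero
    refine ⟨2, ?_⟩
    ext m
    have : Ω m ∈ Z := by rw [he]; exact hΩW m
    simpa [pow_two] using this.2
  have hZ := hirr Z hZW
  have hker : LinearMap.ker Ω ≠ ⊥ := by
    intro hk
    have hinj := LinearMap.ker_eq_bot.mp hk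
    have hsurj := LinearMap.surjective_of_injective hinj
    obtain ⟨m, hm⟩ := hsurj v₀
    exact hv₀ (hm ▸ hΩW m)
  obtain ⟨v, hv, hv0⟩ := Submodule.exists_mem_ne_zero_of_ne_bot hker
  have hbot : ∀ m, m ∈ W → Ω m = 0 → m = 0 := fun m h1 h2 => by
    have : m ∈ Z := ⟨h1, h2⟩
    simpa [hZ] using this
  refine ⟨v, fun hvW => hv0 (hbot v hvW hv), fun x => hbot _ (hLV x v) ?_⟩
  rw [← hcommApply, LinearMap.mem_ker.mp hv, lie_zero]

/-- If `L` has trivial radical and maps the module `V` into a proper submodule `W`, then some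
invariant vector lies outside `W`. -/
theorem exists_invariant_notMem [HasTrivialRadical K L]
    {V : Type w} [AddCommGroup V] [Module K V] [LieRingModule L V] [LieModule K L V]
    [Module.Finite K V] (W : LieSubmodule K L V) (hW : W ≠ ⊤)
    (hLV : ∀ (x : L) (m : V), ⁅x, m⁆ ∈ W) :
    ∃ v : V, v ∉ W ∧ ∀ x : L, ⁅x, v⁆ = 0 := by
  induction h : finrank K V using Nat.strong_induction_on generalizing V with
  | _ n ih =>
  by_cases hirr : ∀ W' : LieSubmodule K L V, W' < W → W' = ⊥
  · exact exists_invariant_of_irreducible W hW hLV hirr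
  push Not at hirr
  obtain ⟨W', hW', hW'0⟩ := hirr
  let q := LieSubmodule.Quotient.mk' W'
  have hqs : Function.Surjective q := Submodule.Quotient.mk_surjective _
  have hmem : ∀ m, q m ∈ W.map q → m ∈ W := by
    intro m hm
    obtain ⟨w, hw, he⟩ := (LieSubmodule.mem_map _).mp hm
    have : m - w ∈ W' := (Submodule.Quotient.eq W'.toSubmodule).mp he.symm
    simpa using add_mem (hW'.le this) hw
  have hlt : finrank K (V ⧸ W') < n := by
    have h1 := Submodule.finrank_quotient_add_finrank W'.toSubmodule
    have h2 : 0 < finrank K W'.toSubmodule := by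
      rw [pos_iff_ne_zero, Ne, Submodule.finrank_eq_zero, LieSubmodule.toSubmodule_eq_bot]
      exact hW'0
    change finrank K (V ⧸ W'.toSubmodule) < n
    omega
  obtain ⟨v₁, hv₁, hk₁⟩ := ih _ hlt (W.map q) (fun he => hW (by
      rw [eq_top_iff]; intro m _; exact hmem m (he ▸ LieSubmodule.mem_top _)))
    (fun x m => by
      obtain ⟨m, rfl⟩ := hqs m
      exact (LieSubmodule.mem_map _).mpr ⟨⁅x, m⁆, hLV x m, q.map_lie x m⟩) rfl
  obtain ⟨v, rfl⟩ := hqs v₁
  have hvW : v ∉ W := fun hv => hv₁ ((LieSubmodule.mem_map _).mpr ⟨v, hv, rfl⟩)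
  have hxv : ∀ x : L, ⁅x, v⁆ ∈ W' := fun x =>
    (Submodule.Quotient.mk_eq_zero W'.toSubmodule).mp ((q.map_lie x v).trans (hk₁ x))
  let V' : LieSubmodule K L V :=
    { toSubmodule := W'.toSubmodule ⊔ K ∙ v
      lie_mem := fun {x m} hm => by
        obtain ⟨a, ha, b, hb, rfl⟩ := Submodule.mem_sup.mp hm
        obtain ⟨c, rfl⟩ := Submodule.mem_span_singleton.mp hb
        rw [lie_add, lie_smul]
        exact Submodule.mem_sup_left (add_mem (W'.lie_mem ha)
          (W'.toSubmodule.smul_mem c (hxv x))) }
  have hvV' : v ∈ V' := Submodule.mem_sup_right (Submodule.mem_span_singleton_self v)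
  have hlt' : finrank K V' < n := by
    obtain ⟨w, hw, hw'⟩ := SetLike.exists_of_lt hW'
    have : V'.toSubmodule < ⊤ := by
      refine lt_of_le_of_ne le_top fun he => hw' ?_
      have hwV : w ∈ V'.toSubmodule := he ▸ Submodule.mem_top
      obtain ⟨a, ha, b, hb, hab⟩ := Submodule.mem_sup.mp hwV
      obtain ⟨c, rfl⟩ := Submodule.mem_span_singleton.mp hb
      by_cases hc : c = 0
      · simpa [← hab, hc] using ha
      · exfalso
        apply hvW
        have : c • v ∈ W := by
          have : c • v = w - a := by rw [← hab]; abel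
          rw [this]
          exact sub_mem hw (hW'.le ha)
        simpa [smul_smul, inv_mul_cancel₀ hc] using W.toSubmodule.smul_mem c⁻¹ this
    have := Submodule.finrank_lt this.ne
    change finrank K V'.toSubmodule < n
    omega
  obtain ⟨⟨v', hv'm⟩, hv', hk⟩ := ih _ hlt' (W'.comap V'.incl)
    (fun he => hvW (hW'.le (show (⟨v, hvV'⟩ : V') ∈ W'.comap V'.incl from
      he ▸ LieSubmodule.mem_top _)))
    (fun x m => by
      obtain ⟨a, ha, b, hb, hab⟩ := Submodule.mem_sup.mp m.2
      obtain ⟨c, rfl⟩ := Submodule.mem_span_singleton.mp hb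
      change ⁅x, (m : V)⁆ ∈ W'
      rw [← hab, lie_add, lie_smul]
      exact add_mem (W'.lie_mem ha) (W'.toSubmodule.smul_mem c (hxv x))) rfl
  refine ⟨v', fun hv'W => hv' ?_, fun x => congrArg Subtype.val (hk x)⟩
  obtain ⟨a, ha, b, hb, hab⟩ := Submodule.mem_sup.mp hv'm
  obtain ⟨c, rfl⟩ := Submodule.mem_span_singleton.mp hb
  change v' ∈ W'
  by_cases hc : c = 0
  · rw [← hab, hc]; simpa using ha
  · exfalso
    apply hvW
    have : c • v ∈ W := by
      have : c • v = v' - a := by rw [← hab]; abel
      rw [this]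
      exact sub_mem hv'W (hW'.le ha)
    simpa [smul_smul, inv_mul_cancel₀ hc] using W.toSubmodule.smul_mem c⁻¹ this

end Groth.Agent.RedLR
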