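/-
Weyl's lemma for a Lie algebra with central radical and modules on which the centre acts trivially.
-/
import Groth.Agent.RedLR.Weyl

namespace Groth.Agent.RedLR

open LieModule LieAlgebra Module

attribute [local instance 100] LieRing.ofAssociativeRing LieAlgebra.ofAssociativeAlgebra

universe u v w

variable {K : Type u} [Field K] [CharZero K] {L : Type v} [LieRing L] [LieAlgebra K L] [Module.Finite K L]

/-- The quotient map of a Lie algebra by an ideal. -/
def quotHom (Z : LieIdeal K L) : L →ₗ⁅K⁆ L ⧸ Z :=
  { Z.toSubmodule.mkQ with map_lie' := fun {_ _} => rfl }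

theorem quotHom_surjective (Z : LieIdeal K L) : Function.Surjective (quotHom Z) :=
  Submodule.Quotient.mk_surjective _

theorem quotHom_eq_zero (Z : LieIdeal K L) (x : L) : quotHom Z x = 0 ↔ x ∈ Z :=
  Submodule.Quotient.mk_eq_zero _

/-- Modulo a central radical the radical is trivial. -/
theorem hasTrivialRadical_quot_center (hrad : radical K L ≤ center K L) :
    HasTrivialRadical K (L ⧸ center K L) := by
  refine hasTrivialRadical_of_no_solvable_ideals fun I hI => ?_
  obtain ⟨n, hn⟩ := IsSolvable.solvable K I
  rw [LieIdeal.derivedSeries_eq_bot_iff] at hn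
  let q := quotHom (center K L)
  let J : LieIdeal K L := LieIdeal.comap q I
  have hD : ∀ m, ∀ a ∈ derivedSeriesOfIdeal K L m J, q a ∈ derivedSeriesOfIdeal K (L ⧸ center K L) m I := by
    intro m
    induction m with
    | zero => intro a ha; exact LieIdeal.mem_comap.mp ha
    | succ m ih =>
      intro a ha
      rw [derivedSeriesOfIdeal_succ, ← LieSubmodule.mem_toSubmodule,
        LieSubmodule.lieIdeal_oper_eq_linear_span'] at ha
      rw [derivedSeriesOfIdeal_succ]
      induction ha using Submodule.span_induction with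
      | mem z hz =>
        obtain ⟨a, ha, b, hb, rfl⟩ := hz
        rw [LieHom.map_lie]
        exact LieSubmodule.lie_mem_lie (ih a ha) (ih b hb)
      | zero => rw [map_zero]; exact zero_mem _
      | add a b _ _ ha hb => rw [map_add]; exact add_mem ha hb
      | smul c a _ ha => rw [map_smul]; exact SMulMemClass.smul_mem c ha
  have hJs : IsSolvable J := by
    refine IsSolvable.mk (R := K) (k := n + 1) ((LieIdeal.derivedSeries_eq_bot_iff J (n + 1)).mpr ?_)
    rw [derivedSeriesOfIdeal_succ, LieSubmodule.lie_eq_bot_iff]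
    intro a _ b hb
    have hbZ : b ∈ center K L := (quotHom_eq_zero _ b).mp (by
      have := hD n b hb
      rwa [hn, LieSubmodule.mem_bot] at this)
    exact (mem_maxTrivSubmodule K L L b).mp hbZ a
  have hJZ : J ≤ center K L := ((LieIdeal.solvable_iff_le_radical K L J).mp hJs).trans hrad
  rw [LieSubmodule.eq_bot_iff]
  intro y hy
  obtain ⟨x, rfl⟩ := quotHom_surjective (center K L) y
  exact (quotHom_eq_zero _ x).mpr (hJZ (LieIdeal.mem_comap.mpr hy))

/-- An invariant functional which is nonzero is nonzero on some invariant vector. -/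
theorem exists_killed_of_central (hrad : radical K L ≤ center K L)
    {V : Type w} [AddCommGroup V] [Module K V] [LieRingModule L V] [LieModule K L V] [Module.Finite K V]
    (hZ : ∀ x ∈ center K L, ∀ v : V, ⁅x, v⁆ = 0) (π : V →ₗ[K] K) (hπ : ∀ (x : L) (v : V), π ⁅x, v⁆ = 0)
    {v₀ : V} (hv₀ : π v₀ ≠ 0) :
    ∃ v : V, (∀ x : L, ⁅x, v⁆ = 0) ∧ π v ≠ 0 := by
  haveI := hasTrivialRadical_quot_center hrad
  haveI : Module.Finite K (L ⧸ center K L) := Module.Finite.quotient K (center K L).toSubmodule
  let f : (L ⧸ center K L) →ₗ[K] Module.End K V :=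
    (center K L).toSubmodule.liftQ (toEnd K L V).toLinearMap (fun x hx => by
      rw [LinearMap.mem_ker]
      ext w
      exact hZ x hx w)
  let act : (L ⧸ center K L) →ₗ⁅K⁆ Module.End K V :=
    { toLinearMap := f
      map_lie' := fun {a b} => by
        obtain ⟨a, rfl⟩ := quotHom_surjective (center K L) a
        obtain ⟨b, rfl⟩ := quotHom_surjective (center K L) b
        exact (toEnd K L V).map_lie a b }
  letI : LieRingModule (L ⧸ center K L) V := LieRingModule.compLieHom V act
  letI : LieModule K (L ⧸ center K L) V := LieModule.compLieHom V act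
  have hbr : ∀ (x : L) (w : V), ⁅quotHom (center K L) x, w⁆ = ⁅x, w⁆ := fun x w => rfl
  let W : LieSubmodule K (L ⧸ center K L) V :=
    { toSubmodule := LinearMap.ker π
      lie_mem := fun {x w} _ => by
        obtain ⟨x, rfl⟩ := quotHom_surjective (center K L) x
        exact hπ x w }
  obtain ⟨w, hwW, hw⟩ := exists_invariant_notMem W
    (fun he => hv₀ (show v₀ ∈ W from he ▸ LieSubmodule.mem_top _))
    (fun x w => by
      obtain ⟨x, rfl⟩ := quotHom_surjective (center K L) x
      exact hπ x w)
  exact ⟨w, fun x => (hbr x w).symm.trans (hw _), hwW⟩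

end Groth.Agent.RedLR
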