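/-
Structure of the Lie algebra of a group whose simple representations are jointly faithful on tangent vectors:
the radical is central and acts semisimply; hence every representation is semisimple.
-/
import Groth.Agent.RedLR.LieComod
import Groth.Agent.RedLR.WeylRed
import Groth.Agent.SolvGrp.LocFinite
import Groth.Agent.ComodLib.Criterion
import Mathlib.Algebra.Lie.Semisimple.Lemmas
import Mathlib.Algebra.Lie.LieTheorem

universe u

open TensorProduct WithConv

namespace Groth.Agent.RedLR

open ComodLib LieModule LieAlgebra SolvGrp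

attribute [local instance 100] LieRing.ofAssociativeRing LieAlgebra.ofAssociativeAlgebra

variable {k : Type u} [Field k] [IsAlgClosed k] [CharZero k]
variable {A : Type u} [CommRing A] [HopfAlgebra k A] [Algebra.FiniteType k A] [IsDomain A]

variable (k A) in
/-- The simple representations are jointly faithful on the Lie algebra. -/
def SimpleFaithful : Prop :=
  ∀ D : Tang k A, (∀ (V : Type u) [AddCommGroup V] [Module k V] [HopfRep.Comod k A V],
    HopfRep.IsSimpleComod k A V → ∀ v : V, actF (form D) v = 0) → D = 0

/-- Solvable ideals act by scalars on simple comodules. -/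
theorem radical_scalar {V : Type u} [AddCommGroup V] [Module k V] [HopfRep.Comod k A V]
    (hV : HopfRep.IsSimpleComod k A V) {x : Tang k A} (hx : x ∈ radical k (Tang k A)) :
    ∃ c : k, ∀ v : V, ⁅x, v⁆ = c • v := by
  haveI : Module.Finite k V := ComodLib.finite_of_isSimpleComod hV
  haveI : Nontrivial V := hV.1
  obtain ⟨χ, hχ⟩ : ∃ χ : Module.Dual k (radical k (Tang k A)), Nontrivial (weightSpace V χ) :=
    exists_nontrivial_weightSpace_of_isSolvable k (radical k (Tang k A)) V
  let N : LieSubmodule k (Tang k A) V := weightSpaceOfIsLieTower k V χ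
  replace hχ : Nontrivial N := hχ
  have hN : N.toSubmodule = ⊤ := by
    rcases hV.2 N.toSubmodule (isSubcomod_of_stable _ fun D u hu => N.lie_mem hu) with h | h
    · obtain ⟨⟨v, hv⟩, hv0⟩ := exists_ne (0 : N)
      refine absurd (Subtype.ext ?_) hv0
      have : v ∈ N.toSubmodule := hv
      rw [h, Submodule.mem_bot] at this
      exact this
    · exact h
  refine ⟨χ ⟨x, hx⟩, fun v => ?_⟩
  have hv : v ∈ N := by
    show v ∈ N.toSubmodule
    rw [hN]
    exact Submodule.mem_top
  have hall : ∀ (y : Tang k A) (hy : y ∈ radical k (Tang k A)), ⁅y, v⁆ = χ ⟨y, hy⟩ • v := by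
    simpa [N, weightSpaceOfIsLieTower, mem_weightSpace] using hv
  exact hall x hx

variable (hsf : SimpleFaithful k A)
include hsf

/-- The radical is central. -/
theorem radical_le_center : radical k (Tang k A) ≤ center k (Tang k A) := by
  intro x hx
  refine (mem_maxTrivSubmodule k (Tang k A) (Tang k A) x).mpr fun y => hsf _ ?_
  intro V _ _ _ hV v
  obtain ⟨c, hc⟩ := radical_scalar hV hx
  show ⁅⁅y, x⁆, v⁆ = 0
  rw [lie_lie, hc, hc, lie_smul, sub_self]

omit hsf in
theorem center_scalar {V : Type u} [AddCommGroup V] [Module k V] [HopfRep.Comod k A V]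
    (hV : HopfRep.IsSimpleComod k A V) {x : Tang k A} (hx : x ∈ center k (Tang k A)) :
    ∃ c : k, ∀ v : V, ⁅x, v⁆ = c • v :=
  radical_scalar hV (center_le_radical k (Tang k A) hx)

omit hsf [CharZero k] [IsDomain A] [Algebra.FiniteType k A] in
theorem isLocFin_actF (φ : A →ₗ[k] k) {V : Type u} [AddCommGroup V] [Module k V] [HopfRep.Comod k A V] :
    IsLocFin (actF φ : Module.End k V) := fun v => by
  obtain ⟨W, hWf, hv, hW⟩ := exists_finite_subcomod_mem (C := A) (k := k) v
  exact ⟨W, hWf, hv, fun w hw => subcomod_actF_mem hW φ hw⟩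

omit hsf [CharZero k] [IsDomain A] [Algebra.FiniteType k A] in
/-- The semisimple part of a tangent vector. -/
theorem exists_ss (x : Tang k A) :
    ∃ s : Tang k A, ∀ (V : Type u) [AddCommGroup V] [Module k V] [HopfRep.Comod k A V],
      (actF (form s) : Module.End k V) = ssPart (actF (form x) : Module.End k V) := by
  let L : Module.End k A := actF (form x)
  have hf : IsLocFin L := isLocFin_actF _
  let Ls := ssPart L
  have hder : ∀ a b, Ls (a * b) = a * Ls b + b * Ls a := by
    have hmul : ∀ {lam μ : k} {a b : A}, a ∈ L.maxGenEigenspace lam → b ∈ L.maxGenEigenspace μ →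
        a * b ∈ L.maxGenEigenspace (lam + μ) := by
      intro lam μ a b ha hb
      let T : k → Module.End k A := fun c => L - c • 1
      have hT : ∀ c z, T c z = L z - c • z := fun c z => rfl
      obtain ⟨i, hi⟩ := (Module.End.mem_maxGenEigenspace _ lam a).mp ha
      obtain ⟨j, hj⟩ := (Module.End.mem_maxGenEigenspace _ μ b).mp hb
      suffices key : ∀ N : ℕ, ∀ (i j : ℕ) (a b : A), i + j ≤ N → (T lam ^ i) a = 0 → (T μ ^ j) b = 0 →
          (T (lam + μ) ^ N) (a * b) = 0 from
        (Module.End.mem_maxGenEigenspace _ _ _).mpr ⟨i + j, key _ i j a b le_rfl hi hj⟩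
      intro N
      induction N with
      | zero =>
        intro i j a b hij h1 _
        obtain rfl : i = 0 := by omega
        simp [show a = 0 by simpa using h1]
      | succ N ih =>
        intro i j a b hij h1 h2
        rcases Nat.eq_zero_or_pos i with rfl | hi0
        · simp [show a = 0 by simpa using h1]
        rcases Nat.eq_zero_or_pos j with rfl | hj0
        · simp [show b = 0 by simpa using h2]
        have e : T (lam + μ) (a * b) = T lam a * b + a * T μ b := by
          simp only [hT, L, actF_mul_of_der (form_mul x), Algebra.smul_def, map_add]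
          ring
        rw [pow_succ, Module.End.mul_apply, e, map_add,
          ih (i - 1) j (T lam a) b (by omega)
            (by rw [← Module.End.mul_apply, ← pow_succ, Nat.sub_add_cancel hi0]; exact h1) h2,
          ih i (j - 1) a (T μ b) (by omega) h1
            (by rw [← Module.End.mul_apply, ← pow_succ, Nat.sub_add_cancel hj0]; exact h2),
          add_zero]
    intro a b
    have ha : a ∈ ⨆ μ, L.maxGenEigenspace μ := iSup_maxGen hf ▸ Submodule.mem_top
    induction ha using Submodule.iSup_induction' with
    | mem lam p hp =>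
      have hb : b ∈ ⨆ μ, L.maxGenEigenspace μ := iSup_maxGen hf ▸ Submodule.mem_top
      induction hb using Submodule.iSup_induction' with
      | mem μ q hq =>
        simp only [Ls, ssPart_apply hf (hmul hp hq), ssPart_apply hf hp, ssPart_apply hf hq, Algebra.smul_def,
          map_add]
        ring
      | zero => simp
      | add q q' _ _ hq hq' => simp only [mul_add, map_add, hq, hq', add_mul]; abel
    | zero => simp
    | add p p' _ _ hp hp' => simp only [add_mul, map_add, hp, hp', mul_add]; abel
  let φ : A →ₗ[k] k := (Bialgebra.counitAlgHom k A).toLinearMap ∘ₗ Ls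
  have hφ : ∀ a b, φ (a * b) = Bialgebra.counitAlgHom k A a * φ b + Bialgebra.counitAlgHom k A b * φ a :=
    fun a b => by simp [φ, hder]
  refine ⟨⟨toConv φ, hφ⟩, fun V _ _ _ => LinearMap.ext fun v => ?_⟩
  have hreg : ∀ a : A, Ls a = actF φ a := by
    intro a
    rw [← sub_eq_zero]
    refine (Module.forall_dual_apply_eq_zero_iff k _).mp fun π => ?_
    rw [map_sub, sub_eq_zero]
    have h1 : coefFun (C := A) π (Ls a) = Ls (coefFun (C := A) π a) :=
      ssPart_comm hf hf _ (fun z => comodHom_actF (isComodHom_coefFun π) _ z) a
    have h2 := congrArg (Bialgebra.counitAlgHom k A) h1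
    rw [show Bialgebra.counitAlgHom k A (coefFun (C := A) π (Ls a)) = π (Ls a) from counit_coefFun π _,
      show Bialgebra.counitAlgHom k A (Ls (coefFun (C := A) π a)) = φ (coefFun (C := A) π a) from rfl] at h2
    rw [h2, coefFun_apply, actF_apply]
    induction HopfRep.Comod.coact (k := k) (A := A) a using TensorProduct.induction_on with
    | zero => simp
    | tmul p q => simp [mul_comm]
    | add p q hp hq => simp only [map_add, hp, hq]
  rw [← sub_eq_zero]
  refine (Module.forall_dual_apply_eq_zero_iff k _).mp fun f => ?_
  rw [map_sub, sub_eq_zero]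
  have h1 : coefFun (C := A) f (ssPart (actF (form x) : Module.End k V) v) = Ls (coefFun (C := A) f v) :=
    ssPart_comm (isLocFin_actF _) hf _ (fun z => comodHom_actF (isComodHom_coefFun f) _ z) v
  rw [hreg, ← comodHom_actF (isComodHom_coefFun f) φ v] at h1
  have h2 := congrArg (Bialgebra.counitAlgHom k A) h1
  rw [show Bialgebra.counitAlgHom k A (coefFun (C := A) f (ssPart (actF (form x) : Module.End k V) v)) = _ from
      counit_coefFun f _,
    show Bialgebra.counitAlgHom k A (coefFun (C := A) f (actF φ v)) = _ from counit_coefFun f _] at h2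
  exact h2.symm

/-- Central elements act semisimply on every representation. -/
theorem isDiag_of_center {x : Tang k A} (hx : x ∈ center k (Tang k A))
    (V : Type u) [AddCommGroup V] [Module k V] [HopfRep.Comod k A V] :
    IsDiag (actF (form x) : Module.End k V) := by
  obtain ⟨s, hs⟩ := exists_ss x
  have hxs : x - s = 0 := by
    refine hsf _ ?_
    intro W _ _ _ hW w
    obtain ⟨c, hc⟩ := center_scalar hW hx
    have h1 : ssPart (actF (form x) : Module.End k W) w = c • w := by
      refine ssPart_apply (isLocFin_actF _) ((Module.End.mem_maxGenEigenspace _ _ _).mpr ⟨1, ?_⟩)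
      rw [pow_one, LinearMap.sub_apply, ← tang_lie_def, hc, LinearMap.smul_apply, Module.End.one_apply, sub_self]
    show ⁅x - s, w⁆ = 0
    rw [sub_lie, hc, tang_lie_def, hs W, h1, sub_self]
  have h2 := ssPart_isDiag (isLocFin_actF (form x) (V := V))
  rw [← hs V, ← sub_eq_zero.mp hxs] at h2
  exact h2

/-- Every finite comodule with an invariant functional has a fixed vector outside its kernel. -/
theorem hasFixedVectors_of_simpleFaithful : HasFixedVectors k A := by
  intro V _ _ _ hfin π hsurj hπ
  classical
  have hπg : ∀ (D : Tang k A) (v : V), π ⁅D, v⁆ = 0 := by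
    intro D v
    have h1 := congrArg (TensorProduct.rid k k ∘ (form D).lTensor k) (LinearMap.congr_fun hπ v)
    simp only [Function.comp_apply, LinearMap.comp_apply, LinearMap.flip_apply, TensorProduct.mk_apply,
      LinearMap.lTensor_tmul, TensorProduct.rid_tmul, form_one, zero_smul] at h1
    rw [tang_lie_def, actF_apply, ← h1]
    induction HopfRep.Comod.coact (k := k) (A := A) v using TensorProduct.induction_on with
    | zero => simp
    | tmul p q => simp [mul_comm]
    | add p q hp hq => simp only [map_add, hp, hq]
  let Z := center k (Tang k A)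
  obtain ⟨S, hS⟩ : Z.toSubmodule.FG := IsNoetherian.noetherian _
  have hVs : ∀ s : Finset (Tang k A), (↑s : Set (Tang k A)) ⊆ Z →
      ∃ v : V, (∀ x ∈ s, ⁅x, v⁆ = 0) ∧ π v ≠ 0 := by
    intro s
    induction s using Finset.induction_on with
    | empty =>
      intro _
      obtain ⟨v, hv⟩ := hsurj 1
      exact ⟨v, by simp, by rw [hv]; exact one_ne_zero⟩
    | @insert x s _ ih =>
      intro hsub
      rw [Finset.coe_insert, Set.insert_subset_iff] at hsub
      obtain ⟨v, hv, hπv⟩ := ih hsub.2
      let W : Submodule k V := ⨅ y ∈ s, LinearMap.ker (actF (form y))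
      have hW : ∀ w ∈ W, actF (form x) w ∈ W := by
        intro w hw
        simp only [W, Submodule.mem_iInf, LinearMap.mem_ker] at hw ⊢
        intro y hy
        have hxy : ⁅y, x⁆ = 0 := (mem_maxTrivSubmodule k (Tang k A) (Tang k A) x).mp hsub.1 y
        show ⁅y, ⁅x, w⁆⁆ = 0
        rw [leibniz_lie, hxy, zero_lie, zero_add, show ⁅y, w⁆ = 0 from hw y hy, lie_zero]
      have hvW : v ∈ W := by
        simp only [W, Submodule.mem_iInf, LinearMap.mem_ker]
        exact hv
      by_contra hne
      push Not at hne
      apply hπv
      have hd := (isDiag_of_center hsf hsub.1 V).mem_iSup_inf (isLocFin_actF _) hW hvW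
      clear hπv hvW hv
      induction hd using Submodule.iSup_induction' with
      | mem μ w hw =>
        have he : ⁅x, w⁆ = μ • w := Module.End.mem_eigenspace_iff.mp hw.1
        by_cases hμ : μ = 0
        · refine hne w fun y hy => ?_
          rcases Finset.mem_insert.mp hy with rfl | hy
          · rw [he, hμ, zero_smul]
          · have h3 := hw.2
            simp only [W, SetLike.mem_coe, Submodule.mem_iInf, LinearMap.mem_ker] at h3
            exact h3 y hy
        · have h2 := hπg x w
          rw [he, map_smul, smul_eq_mul] at h2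
          exact (mul_eq_zero.mp h2).resolve_left hμ
      | zero => exact map_zero π
      | add p q _ _ hp hq => rw [map_add, hp, hq, add_zero]
  obtain ⟨v₀, hv₀, hπ₀⟩ := hVs S (fun x hx => by
    show x ∈ Z.toSubmodule
    rw [← hS]
    exact Submodule.subset_span hx)
  let V₀ : LieSubmodule k (Tang k A) V :=
    { carrier := {v | ∀ x ∈ Z, ⁅x, v⁆ = 0}
      add_mem' := fun {a b} ha hb x hx => by rw [lie_add, ha x hx, hb x hx, add_zero]
      zero_mem' := fun x _ => lie_zero x
      smul_mem' := fun c a ha x hx => by rw [lie_smul, ha x hx, smul_zero]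
      lie_mem := fun {y a} ha x hx => by
        have hxy : ⁅y, x⁆ = 0 := (mem_maxTrivSubmodule k (Tang k A) (Tang k A) x).mp hx y
        have : ⁅x, y⁆ = 0 := by rw [← lie_skew, hxy, neg_zero]
        rw [leibniz_lie, this, zero_lie, zero_add, ha x hx, lie_zero] }
  have hv₀' : v₀ ∈ V₀ := by
    intro x hx
    have hx' : x ∈ Submodule.span k (S : Set (Tang k A)) := hS ▸ hx
    clear hx
    induction hx' using Submodule.span_induction with
    | mem y hy => exact hv₀ y hy
    | zero => rw [zero_lie]
    | add a b _ _ ha hb => rw [add_lie, ha, hb, add_zero]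
    | smul c a _ ha => rw [smul_lie, ha, smul_zero]
  obtain ⟨w, hw, hπw⟩ := exists_killed_of_central (L := Tang k A) (V := V₀) (radical_le_center hsf)
    (fun x hx w => Subtype.ext (w.2 x hx)) (π ∘ₗ V₀.toSubmodule.subtype) (fun x w => hπg x w)
    (v₀ := ⟨v₀, hv₀'⟩) hπ₀
  exact ⟨w, mem_fixedPts_of_killed fun D => congrArg Subtype.val (hw D), hπw⟩

/-- Linear reductivity from joint faithfulness of the simple representations on the Lie algebra. -/
theorem isLinearlyReductive_of_simpleFaithful : HopfRep.IsLinearlyReductive k A :=
  isLinearlyReductive_of_hasFixedVectors (hasFixedVectors_of_simpleFaithful hsf)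

end Groth.Agent.RedLR
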