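/-
Reductive is linearly reductive in characteristic zero.
-/
import Groth.Agent.RedLR.Struct
import Groth.Agent.RedLR.KernelGeom
import Groth.Agent.RedLR.Converse
import Groth.Agent.ComodLib.BaseChange
import Groth.Agent.GrpSchLib.PerfectSmooth
import Groth.Agent.H23.GeomConn
import Groth.Agent.S18813
import Groth.Agent.S0348

set_option backward.isDefEq.respectTransparency false
set_option backward.isDefEq.respectTransparency.types false
set_option linter.style.haveILetI false

universe u

open CategoryTheory Limits MonoidalCategory CartesianMonoidalCategory MonObj AlgebraicGeometry WithConv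
open scoped TensorProduct

namespace Groth.Agent.RedLR

open GrpSchLib

section Transport

variable {K : Type u} [Field K] {G G' : Over (Spec (CommRingCat.of K))} [GrpObj G] [GrpObj G']

/-- Reductivity is invariant under isomorphisms of groups. -/
theorem isReductiveOver_congr (e : Grp.mk G ≅ Grp.mk G') (h : Red.IsReductiveOver K G) :
    Red.IsReductiveOver K G' := by
  obtain ⟨haff, hsm, hconn, hrad⟩ := h
  haveI := haff
  haveI := hsm
  haveI := hconn
  let j : G ≅ G' := (Grp.forget _).mapIso e
  haveI : IsMonHom j.inv := e.inv.hom.isMonHom_hom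
  haveI : IsMonHom j.hom := e.hom.hom.isMonHom_hom
  haveI : IsIso j.hom.left := ((Over.forget _).mapIso j).isIso_hom
  haveI : IsIso j.inv.left := ((Over.forget _).mapIso j).isIso_inv
  refine ⟨IsAffine.of_isIso j.inv.left, ?_, j.hom.left.homeomorph.surjective.connectedSpace
    j.hom.left.homeomorph.continuous, ?_⟩
  · rw [← Over.w j.inv]
    infer_instance
  · intro U _ i _ hci hsmU hcU hn hU
    haveI := hci
    haveI : IsClosedImmersion (i ≫ j.inv).left := inferInstanceAs (IsClosedImmersion (i.left ≫ j.inv.left))
    refine hrad U (i ≫ j.inv) inferInstance hsmU hcU ?_ hU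
    intro T g n
    obtain ⟨n', hn'⟩ := hn T (g ≫ j.hom) n
    refine ⟨n', ?_⟩
    have h2 := congrArg (· ≫ j.inv) hn'
    simp only [MonObj.mul_comp, GrpObj.inv_comp, Category.assoc, Iso.hom_inv_id, Category.comp_id] at h2
    exact h2

end Transport

variable {k : Type u} [Field k]

/-- The algebraically closed base change of a point of `Spec k`. -/
theorem exists_geomFibre_iso (A : Type u) [CommRing A] [HopfAlgebra k A]
    (s : (Spec (CommRingCat.of k) : Scheme.{u})) :
    ∃ (_ : Algebra k (AlgebraicClosure ((Spec (CommRingCat.of k)).residueField s))),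
      Nonempty (Grp.mk (Red.geomFibre s (AffineHopf.sp k A)) ≅
        Grp.mk (AffineHopf.sp (AlgebraicClosure ((Spec (CommRingCat.of k)).residueField s))
          (AlgebraicClosure ((Spec (CommRingCat.of k)).residueField s) ⊗[k] A))) := by
  obtain ⟨φ, hφ⟩ := Spec.map_surjective (Red.geomPt s)
  let K := AlgebraicClosure ((Spec (CommRingCat.of k)).residueField s)
  letI : Algebra k K := φ.hom.toAlgebra
  refine ⟨φ.hom.toAlgebra, ?_⟩
  obtain ⟨e1⟩ := AffineHopf.nonempty_bc_iso (Red.geomPt s) (Spec.map (CommRingCat.ofHom (algebraMap k K))) hφ.symm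
    (AffineHopf.sp k A)
  obtain ⟨e2⟩ := AffineHopf.nonempty_bc_sp (R := k) K A
  exact ⟨e1 ≪≫ e2⟩

theorem isDomain_of_connected (A : Type u) [CommRing A] [HopfAlgebra k A] [_root_.IsReduced A]
    [ConnectedSpace (AffineHopf.sp k A).left] : IsDomain A := by
  haveI : IrreducibleSpace (PrimeSpectrum A) := Groth.Agent.S0348.result k (AffineHopf.sp k A)
  have h := (PrimeSpectrum.irreducibleSpace_iff_isPrime_nilradical (R := A)).mp ‹_›
  rw [nilradical_eq_zero A] at h
  haveI : Nontrivial A := by
    refine ⟨0, 1, fun h01 => h.ne_top ?_⟩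
    rw [Ideal.eq_top_iff_one, ← h01]
    exact zero_mem _
  haveI : (⊥ : Ideal A).IsPrime := h
  exact IsDomain.of_bot_isPrime A

variable [CharZero k] (A : Type u) [CommRing A] [HopfAlgebra k A] [Algebra.FiniteType k A]

/-- A reductive group in characteristic zero is linearly reductive. -/
theorem isLinearlyReductive_of_isReductive (hG : Red.IsReductive (AffineHopf.sp k A)) :
    HopfRep.IsLinearlyReductive k A := by
  let s : (Spec (CommRingCat.of k) : Scheme.{u}) := IsLocalRing.closedPoint k
  obtain ⟨alg, ⟨e⟩⟩ := exists_geomFibre_iso (k := k) A s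
  letI := alg
  let K := AlgebraicClosure ((Spec (CommRingCat.of k)).residueField s)
  haveI : CharZero K := charZero_of_injective_algebraMap (algebraMap k K).injective
  rw [Groth.Agent.S18813.result k K A]
  have hR := isReductiveOver_congr e (hG.2.2 s)
  haveI := hR.2.2.1
  haveI : Algebra.FiniteType K (K ⊗[k] A) := inferInstance
  haveI : _root_.IsReduced (K ⊗[k] A) := ComodLib.isReduced_of_charZero' (k := K)
  haveI : IsDomain (K ⊗[k] A) := isDomain_of_connected (k := K) (K ⊗[k] A)
  exact isLinearlyReductive_of_simpleFaithful fun D hD =>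
    tang_eq_zero_of_kills (killsPt_eq_counit hR) D hD

/-- A connected linearly reductive group in characteristic zero is reductive. -/
theorem isReductive_of_isLinearlyReductive [ConnectedSpace (AffineHopf.sp k A).left]
    (hlr : HopfRep.IsLinearlyReductive k A) : Red.IsReductive (AffineHopf.sp k A) := by
  haveI : _root_.IsReduced A := ComodLib.isReduced_of_charZero' (k := k)
  haveI : IsReduced (AffineHopf.sp k A).left := inferInstanceAs (IsReduced (Spec (CommRingCat.of A)))
  haveI : LocallyOfFiniteType (AffineHopf.sp k A).hom :=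
    (HasRingHomProperty.Spec_iff (P := @LocallyOfFiniteType)).mpr
      (RingHom.finiteType_algebraMap.mpr ‹Algebra.FiniteType k A›)
  have hsm : Smooth (AffineHopf.sp k A).hom := smooth_of_perfectField_of_isReduced (AffineHopf.sp k A)
  haveI := hsm
  haveI haff : IsAffineHom (AffineHopf.sp k A).hom := inferInstanceAs (IsAffineHom (Spec.map _))
  haveI : GeometricallyConnected (AffineHopf.sp k A).hom :=
    H23.GeomConn.of_point k (AffineHopf.sp k A).hom (η[AffineHopf.sp k A]).left (Over.w _)
  refine ⟨haff, hsm, fun s => ?_⟩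
  obtain ⟨alg, ⟨e⟩⟩ := exists_geomFibre_iso (k := k) A s
  letI := alg
  let K := AlgebraicClosure ((Spec (CommRingCat.of k)).residueField s)
  haveI : CharZero K := charZero_of_injective_algebraMap (algebraMap k K).injective
  refine isReductiveOver_congr e.symm ?_
  haveI : _root_.IsReduced (K ⊗[k] A) := ComodLib.isReduced_of_charZero' (k := K)
  let j : Red.geomFibre s (AffineHopf.sp k A) ≅ AffineHopf.sp K (K ⊗[k] A) := (Grp.forget _).mapIso e
  haveI : IsIso j.hom.left := ((Over.forget _).mapIso j).isIso_hom
  haveI : ConnectedSpace (Red.geomFibre s (AffineHopf.sp k A)).left :=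
    GeometricallyConnected.geometrically_connectedSpace _ _ _ (IsPullback.of_hasPullback _ _)
  haveI : ConnectedSpace (AffineHopf.sp K (K ⊗[k] A)).left :=
    j.hom.left.homeomorph.surjective.connectedSpace j.hom.left.homeomorph.continuous
  haveI : IsReduced (AffineHopf.sp K (K ⊗[k] A)).left := inferInstanceAs (IsReduced (Spec (CommRingCat.of (K ⊗[k] A))))
  haveI : LocallyOfFiniteType (AffineHopf.sp K (K ⊗[k] A)).hom :=
    (HasRingHomProperty.Spec_iff (P := @LocallyOfFiniteType)).mpr
      (RingHom.finiteType_algebraMap.mpr (inferInstance : Algebra.FiniteType K (K ⊗[k] A)))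
  haveI : Smooth (AffineHopf.sp K (K ⊗[k] A)).hom := smooth_of_perfectField_of_isReduced (AffineHopf.sp K (K ⊗[k] A))
  refine ⟨isAffine_Spec _, inferInstance, inferInstance, fun U _ i _ hci hsmU hcU hn hU => ?_⟩
  haveI := hci
  haveI := hsmU
  haveI := hcU
  exact isTrivialGrp_of_isLinearlyReductive ((Groth.Agent.S18813.result k K A).mp hlr) U i hn hU

end Groth.Agent.RedLR
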