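/-
A normalised integral contracts the Hochschild complex in positive degrees.
-/
import Groth.Agent.ComodLib.Invariants

universe u v

open TensorProduct

namespace Groth.Agent.RedLR

variable {k : Type u} [Field k] {A : Type v} [CommRing A] [HopfAlgebra k A]

/-- Over a group with a normalised integral the cohomology vanishes in positive degrees. -/
theorem subsingleton_H {α : A →ₗ[k] k} (hα : ComodLib.IsIntegral k α) (h1 : α 1 = 1)
    (V : Type v) [AddCommGroup V] [Module k V] [HopfRep.Comod k A V] (m : ℕ) :
    Subsingleton (Hoch.H k A V (m + 1)) := by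
  have hr : ComodLib.IsRightIntegral k α := by
    have h := hα.isRightIntegral_antipode
    rwa [ComodLib.comp_antipode_eq hα h1] at h
  let h : ∀ j : ℕ, (Hoch.cochain k A V (j + 1) : Type v) →ₗ[k] (Hoch.cochain k A V j : Type v) :=
    fun j => (TensorProduct.rid k (Hoch.cochain k A V j : Type v)).toLinearMap ∘ₗ
      α.lTensor (Hoch.cochain k A V j : Type v)
  have key : ∀ x : (Hoch.cochain k A V m : Type v) ⊗[k] A,
      h (m + 1) (Hoch.d k A V (m + 1) x) =
        Hoch.d k A V m (h m x) + ((-1 : k) ^ m) • x := by
    intro x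
    induction x using TensorProduct.induction_on with
    | zero => simp [h]
    | add p q hp hq => simp only [map_add, hp, hq, smul_add]; abel
    | tmul y a =>
      have e : ∀ z : A ⊗[k] A, h (m + 1) ((TensorProduct.assoc k (Hoch.cochain k A V m : Type v) A A).symm (y ⊗ₜ z)) =
          y ⊗ₜ[k] (TensorProduct.rid k A (α.lTensor A z)) := fun z => by
        induction z using TensorProduct.induction_on with
        | zero => simp [h]
        | tmul p q => simp [h, TensorProduct.tmul_smul]
        | add p q hp hq => simp only [TensorProduct.tmul_add, map_add, hp, hq]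
      rw [Hoch.d_succ, LinearMap.add_apply, LinearMap.smul_apply, map_add, map_smul]
      rw [Hoch.tail_tmul, e]
      have e2 : TensorProduct.rid k A (α.lTensor A
          (Coalgebra.comul (R := k) a - a ⊗ₜ[k] (1 : A) - (1 : A) ⊗ₜ[k] a)) = -a := by
        simp only [map_sub]
        rw [hr a]
        simp [h1]
      rw [e2, TensorProduct.tmul_neg, pow_succ, mul_neg, mul_one, neg_smul, smul_neg, neg_neg]
      simp [h]
  refine ⟨fun p q => ?_⟩
  obtain ⟨p, rfl⟩ := Submodule.Quotient.mk_surjective _ p
  obtain ⟨q, rfl⟩ := Submodule.Quotient.mk_surjective _ q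
  rw [Submodule.Quotient.eq]
  show Subtype.val (p - q) ∈ LinearMap.range (Hoch.d k A V m)
  set x := Subtype.val (p - q) with hx
  have hd : Hoch.d k A V (m + 1) x = 0 := LinearMap.mem_ker.mp (p - q).2
  have h2 := key x
  rw [hd, map_zero] at h2
  refine ⟨(-(-1 : k) ^ m) • h m x, ?_⟩
  have h3 : Hoch.d k A V m (h m x) = -(((-1 : k) ^ m) • x) := eq_neg_of_add_eq_zero_left h2.symm
  rw [map_smul, h3, smul_neg, neg_smul, neg_neg, smul_smul, ← mul_pow, neg_one_mul, neg_neg, one_pow, one_smul]

end Groth.Agent.RedLR
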